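import Cfsg.Agent.Lib.Fischer.Relations.Basic
import Mathlib.GroupTheory.PGroup
import Mathlib.GroupTheory.Perm.Cycle.Type
import Mathlib.GroupTheory.GroupAction.Quotient

/-!
# Two counts: orbits of commuting members, and permutations of exponent four

Commuting members that fail to commute with enough points split a set into orbits of even size. A permutation
of exponent four has the sign read off from the sizes of its support and of the support of its square.
-/

set_option autoImplicit false
set_option linter.unusedSectionVars false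

namespace Cfsg.Lib.Fischer.Relations

open Cfsg.Lib.Fischer

theorem perm_four {α : Type*} [Fintype α] [DecidableEq α] (π : Equiv.Perm α) (h : π ^ 4 = 1) :
    ∃ a b : ℕ, π.support.card = 2 * a + 4 * b ∧ (π ^ 2).support.card = 4 * b ∧
      Equiv.Perm.sign π = (-1) ^ (a + b) := by
  induction π using Equiv.Perm.cycle_induction_on with
  | base_one => exact ⟨0, 0, by simp, by simp, by simp⟩
  | base_cycles σ hσ =>
    have hd := orderOf_dvd_of_pow_eq_one h
    rw [hσ.orderOf] at hd
    have h2 : 2 ≤ σ.support.card := hσ.two_le_card_support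
    obtain hc | hc : σ.support.card = 2 ∨ σ.support.card = 4 := by
      have := Nat.le_of_dvd (by norm_num) hd
      generalize σ.support.card = n at hd h2 this
      interval_cases n <;> simp_all
    · refine ⟨1, 0, by rw [hc], ?_, by rw [hσ.sign, hc]; decide⟩
      rw [show σ ^ 2 = 1 by rw [← hc, ← hσ.orderOf, pow_orderOf_eq_one]]
      simp
    · refine ⟨0, 1, by rw [hc], ?_, by rw [hσ.sign, hc]; decide⟩
      rw [hσ.support_pow_eq_iff.2 (by rw [hσ.orderOf, hc]; decide), hc]
  | induction_disjoint σ τ hd _ ih₁ ih₂ =>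
    rw [hd.commute.mul_pow, (hd.pow_disjoint_pow 4 4).mul_eq_one_iff] at h
    obtain ⟨a, b, h1, h2, h3⟩ := ih₁ h.1
    obtain ⟨a', b', h1', h2', h3'⟩ := ih₂ h.2
    refine ⟨a + a', b + b', ?_, ?_, ?_⟩
    · rw [hd.card_support_mul, h1, h1']; ring
    · rw [hd.commute.mul_pow, (hd.pow_disjoint_pow 2 2).card_support_mul, h2, h2']; ring
    · rw [map_mul, h3, h3', ← pow_add]; congr 1; ring

/-- The number of points moved is the number of points less those fixed. -/
theorem card_support_eq {α : Type*} [Fintype α] [DecidableEq α] (π : Equiv.Perm α) :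
    π.support.card + Nat.card {x // π x = x} = Nat.card α := by
  rw [Nat.card_eq_fintype_card, Nat.card_eq_fintype_card, Fintype.card_subtype, ← Finset.card_univ,
    ← Finset.card_filter_add_card_filter_not (s := Finset.univ) (fun x : α => π x ≠ x)]
  congr 1
  simp

variable {G : Type*} [Group G] [Finite G] {D : Set G} (hD : Trans D)
include hD

/-- Commuting members, at least `2 ^ j` of which move each point of a set, make its size divisible by
`2 ^ (j + 1)`. -/
theorem two_pow_dvd_card (A : List G) (hnd : A.Nodup) (hA : ∀ a ∈ A, a ∈ D)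
    (hc : ∀ a ∈ A, ∀ b ∈ A, Commute a b) (X : Set G) (hX : X ⊆ D)
    (hst : ∀ a ∈ A, ∀ x ∈ X, a * x * a⁻¹ ∈ X) {j : ℕ} [∀ x : G, DecidablePred fun a => ¬ Commute x a]
    (hmv : ∀ x ∈ X, 2 ^ j ≤ (A.filter fun a => decide (¬ Commute x a)).length) :
    2 ^ (j + 1) ∣ Nat.card X := by
  classical
  haveI : Fact (Nat.Prime 2) := ⟨Nat.prime_two⟩
  obtain ⟨H, hH⟩ : ∃ H, H = Subgroup.closure {a | a ∈ A} := ⟨_, rfl⟩
  have hmem : ∀ a ∈ A, a ∈ H := fun a ha => hH ▸ Subgroup.subset_closure ha
  have hcen : ∀ x ∈ H, ∀ y ∈ H, Commute x y := by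
    have h1 : H ≤ Subgroup.centralizer {a | a ∈ A} :=
      hH ▸ (Subgroup.closure_le _).2 fun a ha b hb => hc b hb a ha
    have h2 : H ≤ Subgroup.centralizer (H : Set G) :=
      hH ▸ (Subgroup.closure_le _).2 fun a ha y hy => (h1 (hH ▸ hy) a ha).symm
    exact fun x hx y hy => (h2 hx y hy).symm
  have hsq : ∀ x ∈ H, x * x = 1 := by
    intro x hx
    rw [hH] at hx
    induction hx using Subgroup.closure_induction with
    | mem a ha => exact mul_self hD (hA a ha)
    | one => exact one_mul 1
    | mul x y hx hy h1 h2 =>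
      rw [mul_assoc, ← mul_assoc y, ← (hcen x (hH ▸ hx) y (hH ▸ hy)).eq, mul_assoc x y, h2, mul_one, h1]
    | inv x _ h => rw [← mul_inv_rev, h, inv_one]
  have hstab : ∀ h ∈ H, ∀ x ∈ X, h * x * h⁻¹ ∈ X := by
    intro h hh
    rw [hH] at hh
    induction hh using Subgroup.closure_induction with
    | mem a ha => exact hst a ha
    | one => simp
    | mul x y _ _ h1 h2 =>
      intro z hz
      have := h1 _ (h2 z hz)
      simpa [mul_assoc] using this
    | inv x hx h =>
      rw [inv_eq_of_mul_eq_one_right (hsq x (hH ▸ hx))]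
      exact h
  letI : MulAction ↥H ↥X :=
    { smul := fun h x => ⟨(h : G) * x * (h : G)⁻¹, hstab h h.2 x x.2⟩
      one_smul := fun x => Subtype.ext (show (1 : G) * x * (1 : G)⁻¹ = x by simp)
      mul_smul := fun g h x => Subtype.ext (show (g : G) * h * x * ((g : G) * h)⁻¹ = g * (h * x * (h : G)⁻¹) * (g : G)⁻¹
        by group) }
  have hp : IsPGroup 2 ↥H := fun h => ⟨1, Subtype.ext (by simpa [pow_two] using hsq h h.2)⟩
  have horb : ∀ x : ↥X, 2 ^ (j + 1) ∣ Nat.card (MulAction.orbit ↥H x) := by
    intro x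
    obtain ⟨n, hn⟩ := hp.card_orbit x
    rw [hn]
    refine pow_dvd_pow 2 ((Nat.pow_lt_pow_iff_right one_lt_two).1 (?_ : 2 ^ j < 2 ^ n))
    obtain ⟨L, hL⟩ : ∃ L, L = A.filter fun a => decide (¬ Commute (x : G) a) := ⟨_, rfl⟩
    have hLA : ∀ a ∈ L, a ∈ A ∧ ¬ Commute (x : G) a := fun a ha => by
      rw [hL, List.mem_filter, decide_eq_true_eq] at ha
      exact ha
    have hnd' : ((x : G) :: L.map fun a => cj a (x : G)).Nodup := by
      rw [List.nodup_cons, List.nodup_map_iff_inj_on (hL ▸ hnd.filter _)]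
      refine ⟨?_, fun a ha b hb e => eq_of_cj_eq hD (hA a (hLA a ha).1) (hA b (hLA b hb).1) (hX x.2)
        (hLA a ha).2 (hLA b hb).2 e⟩
      simp only [List.mem_map, not_exists, not_and]
      exact fun a ha e => (hLA a ha).2 ((cj_eq_self hD (hA a (hLA a ha).1)).1 e).symm
    have hsub : ((x : G) :: L.map fun a => cj a (x : G)).toFinset ⊆
        ((MulAction.orbit ↥H x).toFinite.toFinset.image fun y : ↥X => (y : G)) := by
      intro y hy
      simp only [List.mem_toFinset, List.mem_cons, List.mem_map] at hy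
      rw [Finset.mem_image]
      simp only [Set.Finite.mem_toFinset]
      rcases hy with rfl | ⟨a, ha, rfl⟩
      · exact ⟨x, MulAction.mem_orbit_self x, rfl⟩
      · refine ⟨(⟨a, hmem a (hLA a ha).1⟩ : ↥H) • x, MulAction.mem_orbit _ _, ?_⟩
        show a * (x : G) * a⁻¹ = a * x * a
        rw [inv_eq hD (hA a (hLA a ha).1)]
    have h := (Finset.card_le_card hsub).trans Finset.card_image_le
    rw [List.toFinset_card_of_nodup hnd', List.length_cons, List.length_map,
      ← Nat.card_eq_card_finite_toFinset, hn] at h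
    exact lt_of_lt_of_le (Nat.lt_succ_of_le (hL ▸ hmv x x.2)) h
  haveI : Fintype (MulAction.orbitRel.Quotient ↥H ↥X) := Fintype.ofFinite _
  rw [Nat.card_congr (MulAction.selfEquivSigmaOrbits ↥H ↥X), Nat.card_sigma]
  exact Finset.dvd_sum fun q _ => horb _

end Cfsg.Lib.Fischer.Relations
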