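import Cfsg.Agent.Lib.Fischer.Relations.Centralizer.FixCount
import Cfsg.Agent.Lib.Fischer.Relations.Centralizer.Count

/-!
# The field part of the centralizer is trivial

A field automorphism in the centralizer of `d` would give an odd permutation of the class, of a perfect group.
-/

set_option autoImplicit false
set_option linter.unusedSectionVars false

namespace Cfsg.Lib.Fischer.Relations

open Module Matrix Cfsg Cfsg.Lib.Fischer Cfsg.Lib.Linear.Herm Cfsg.Agent.S1631
  Cfsg.Lib.Fischer.RadicalAbelian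
open Cfsg.Lib.Linear

variable {G : Type*} [Group G] [Finite G] {D : Set G}
  {F : Type} [Field F] [Fintype F] {hF : Fintype.card F = 2 ^ 2} {d : G}

/-- Conjugation as a permutation of the class. -/
def classPerm (hD : Trans D) : G →* Equiv.Perm ↥D where
  toFun g :=
    { toFun := fun x => ⟨g * x * g⁻¹, hD.conj g x x.2⟩
      invFun := fun x => ⟨g⁻¹ * x * g, by simpa using hD.conj g⁻¹ x x.2⟩
      left_inv := fun x => Subtype.ext (by simp [mul_assoc])
      right_inv := fun x => Subtype.ext (by simp [mul_assoc]) }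
  map_one' := Equiv.ext fun x => Subtype.ext (by simp)
  map_mul' g h := Equiv.ext fun x => Subtype.ext (by simp [mul_assoc])

namespace Coord

variable (C : Coord D d hF)
include C

/-- The group is perfect on its class, so every permutation of the class it induces is even. -/
theorem sign_classPerm [Fintype ↥D] [DecidableEq ↥D] (g : G) :
    Equiv.Perm.sign (classPerm C.trans g) = 1 := by
  have hDc : D ⊆ (commutator G : Set G) := fun x hx => by
    obtain ⟨h1, h2⟩ := perp_perfect C.fis C.nbr hx C.prim C.cen C.sep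
    exact Subgroup.commutator_mono le_top le_top (h2.symm ▸ h1)
  have htop : commutator G = ⊤ := top_le_iff.1 (C.trans.gen ▸ (Subgroup.closure_le _).2 hDc)
  exact MonoidHom.mem_ker.1 (Abelianization.commutator_subset_ker
    (Equiv.Perm.sign.comp (classPerm C.trans)) (htop ▸ Subgroup.mem_top g))

/-- A semilinear map induced by an element centralizing `d` is linear. -/
theorem tau_id {g : G} (hg : Commute g d) {A : ↥(Cfsg.GU 6 F 2)} {τ : F ≃+* F}
    (hA : ∀ s ∈ perp D d, ∃ a : F, a ≠ 0 ∧ C.U.c (g * s * g⁻¹) = a • (A.1.1.mulVec (τ ∘ C.U.c s))) :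
    ∀ x, τ x = x := by
  classical
  by_contra hτ
  push Not at hτ
  have hsq := aut_sq hF hτ
  have hK := fourField hF
  have hS := hB_isSymm hF 6
  have hB' := hB_nondegenerate hF 6
  have h5 : 5 ≤ finrank F (Fin 6 → F) := by rw [finrank_fin_fun]; norm_num
  have hD := C.trans
  obtain ⟨μ, hμdef⟩ : ∃ μ, μ = A.1.1.det := ⟨_, rfl⟩
  have hμ0 : μ ≠ 0 := hμdef ▸ ((Matrix.isUnit_iff_isUnit_det _).1 A.1.isUnit).ne_zero
  obtain ⟨e, he⟩ : ∃ e : Fin 6 → F, e = ![μ, 1, 1, 1, 1, 1] := ⟨_, rfl⟩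
  have he0 : ∀ i, e i ≠ 0 := by intro i; fin_cases i <;> simp [he, hμ0]
  obtain ⟨B, hB, hBdet⟩ := exists_diag hF e he0
  obtain ⟨k, -, hkg, hc⟩ := C.adjust hg hA B (by rw [hBdet, ← hμdef, Fin.prod_univ_six]; simp [he])
  obtain ⟨g1, hg1⟩ : ∃ g1, g1 = k * g := ⟨_, rfl⟩
  rw [← hg1] at hkg
  simp only [← hg1, hB] at hc
  -- the square acts trivially on the neighbours
  have hg2 : g1 * g1 = 1 ∨ g1 * g1 = d := C.eq_or_eq (hkg.mul_left hkg) fun s hs => by
    obtain ⟨a, -, e1⟩ := hc s hs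
    obtain ⟨b, -, e2⟩ := hc _ (C.conj_mem hkg hs)
    refine ⟨b * (a * a), ?_⟩
    rw [show g1 * g1 * s * (g1 * g1)⁻¹ = g1 * (g1 * s * g1⁻¹) * g1⁻¹ by group, e2, e1]
    ext i
    simp only [Pi.smul_apply, smul_eq_mul, mulVec_diagonal, Function.comp_apply, hsq]
    by_cases hv : C.U.c s i = 0
    · simp [hv]
    · linear_combination (b * a * a * C.U.c s i * (C.U.c s i * C.U.c s i * C.U.c s i)) *
        hK.cube (e i) (he0 i) + (b * a * a * C.U.c s i) * hK.cube _ hv
  -- a line of five members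
  obtain ⟨M, hM⟩ := C.exists_pm
  obtain ⟨ω, hω⟩ := Linear.exists_omega hK hS hB'
  have hω0 : ω ≠ 0 := fun e => hω (by rw [e, map_zero])
  have hω1 : ω ≠ 1 := fun e => hω (by rw [e, map_one])
  have hsω1 : frob hF ω ≠ 1 := fun e => hω1 ((frob hF).injective (by rw [e, map_one]))
  have hsω0 : frob hF ω ≠ 0 := fun e => hω0 ((frob hF).injective (by rw [e, map_zero]))
  have hb : ∀ c : F, (0 : F) ≠ 0 ∨ (1 : F) ≠ 0 ∨ c ≠ 0 := fun _ => Or.inr (Or.inl one_ne_zero)
  have hc1 : (0 : F) ≠ 0 ∨ (0 : F) ≠ 0 ∨ (1 : F) ≠ 0 := Or.inr (Or.inr one_ne_zero)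
  have hne : ∀ c c' : F, c ≠ c' → M 0 1 c ≠ M 0 1 c' := fun c c' h e => by
    obtain ⟨j, -, -, h2, h3⟩ := C.pm_eq hM (hb c) (hb c') e
    rw [mul_one] at h2
    exact h (by rw [h3, ← h2, one_mul])
  have hne' : ∀ c : F, M 0 1 c ≠ M 0 0 1 := fun c e => by
    obtain ⟨j, -, -, h2, -⟩ := C.pm_eq hM (hb c) hc1 e
    simp at h2
  obtain ⟨five, hfive⟩ : ∃ five, five = [M 0 1 0, M 0 0 1, M 0 1 1, M 0 1 ω, M 0 1 (frob hF ω)] := ⟨_, rfl⟩
  have hfp : ∀ x ∈ five, x ∈ perp D d := by
    simp [hfive, (hM _ _ _ (hb 0)).1, (hM _ _ _ hc1).1, (hM _ _ _ (hb 1)).1, (hM _ _ _ (hb ω)).1,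
      (hM _ _ _ (hb (frob hF ω))).1]
  have hfnd : five.Nodup := by
    simp [hfive, hne _ _ zero_ne_one, hne _ _ hω0.symm, hne _ _ hsω0.symm, hne _ _ hω1.symm,
      hne _ _ hsω1.symm, hne _ _ hω.symm, hne', (hne' _).symm]
  have hfc : ∀ x ∈ five, ∀ y ∈ five, Commute x y := by
    intro x hx y hy
    simp only [hfive, List.mem_cons, List.not_mem_nil, or_false] at hx hy
    rcases hx with rfl | rfl | rfl | rfl | rfl <;> rcases hy with rfl | rfl | rfl | rfl | rfl <;>
      apply C.pm_commute hM <;> first | exact hb _ | exact hc1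
  have hfprod : five.prod = d := by
    have hcen : ∀ y ∈ perp D d, Commute five.prod y := by
      have h := C.pm_product hM [(0, 1, 0), (0, 0, 1), (0, 1, 1), (0, 1, ω), (0, 1, frob hF ω)] (by simp)
        (fun x => by
          have := Linear.line_act hK hS hB' (w := pv 0 1 0) (z := pv 0 0 1) hω x
          simpa [smul_pv, add_pv] using this)
      simp only [List.map_cons, List.map_nil, ← hfive] at h
      intro y hy
      rcases h with h | h <;> rw [h]
      exacts [Commute.one_left y, hy.2.2]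
    subst hfive
    exact line_prod hD hK hS hB' h5 C.prim C.cen C.sep C.mem C.U rfl hfnd hfp hfc hcen
  obtain ⟨A4, hA4⟩ : ∃ A4, A4 = [M 0 1 0, M 0 0 1, M 0 1 1, d] := ⟨_, rfl⟩
  obtain ⟨six, hsix⟩ : ∃ six, six = A4 ++ [M 0 1 ω, M 0 1 (frob hF ω)] := ⟨_, rfl⟩
  have hperm : six.Perm (d :: five) := by
    subst hsix hA4 hfive
    exact List.perm_middle (l₁ := [M 0 1 0, M 0 0 1, M 0 1 1])
  have hsmem : ∀ x ∈ six, x ∈ D ∧ Commute x d := fun x hx => by
    rcases List.mem_cons.1 (hperm.mem_iff.1 hx) with rfl | h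
    exacts [⟨C.mem, Commute.refl _⟩, ⟨(hfp x h).1, (hfp x h).2.2.symm⟩]
  have hsc : ∀ x ∈ six, ∀ y ∈ six, Commute x y := fun x hx y hy => by
    rcases List.mem_cons.1 (hperm.mem_iff.1 hx) with rfl | hx' <;>
      rcases List.mem_cons.1 (hperm.mem_iff.1 hy) with rfl | hy'
    exacts [Commute.refl _, (hfp y hy').2.2, (hfp x hx').2.2.symm, hfc x hx' y hy']
  have hsnd : six.Nodup := hperm.nodup_iff.2 (List.nodup_cons.2 ⟨fun h => (hfp d h).2.1 rfl, hfnd⟩)
  have hsprod : six.prod = 1 := by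
    rw [prod_perm hperm hsc, List.prod_cons, hfprod, mul_self hD C.mem]
  -- the members outside the neighbourhood
  obtain ⟨Far, hFar⟩ : ∃ Far : Set G, Far = {x | x ∈ D ∧ ¬ Commute x d} := ⟨_, rfl⟩
  have hfour : ∀ x ∈ Far, 4 ≤ (six.filter fun a => decide (¬ Commute x a)).length := by
    intro x hx
    rw [hFar] at hx
    refine (pattern hD hx.1 hsnd (fun a ha => (hsmem a ha).1) hsc (hsprod ▸ Commute.one_left x)).resolve_left
      fun h => ?_
    rw [List.length_eq_zero_iff, List.filter_eq_nil_iff] at h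
    exact h d (hperm.mem_iff.2 (List.mem_cons_self ..)) (by simpa using hx.2)
  have hFarSt : ∀ a, Commute a d → ∀ x ∈ Far, a * x * a⁻¹ ∈ Far := fun a ha x hx => by
    rw [hFar] at hx ⊢
    refine ⟨hD.conj a x hx.1, fun h => hx.2 ?_⟩
    rw [← Commute.conj_iff a]
    rwa [show a * d * a⁻¹ = d by rw [ha.eq, mul_inv_cancel_right]]
  have hFarD : Far ⊆ D := fun x hx => by rw [hFar] at hx; exact hx.1
  have h8 : 8 ∣ Nat.card Far :=
    two_pow_dvd_card hD six hsnd (fun a ha => (hsmem a ha).1) hsc Far hFarD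
      (fun a ha x hx => hFarSt a (hsmem a ha).2 x hx) (j := 2) hfour
  -- fixed members
  have hA6 : ∀ x ∈ A4, x ∈ six := fun x hx => by rw [hsix]; exact List.mem_append_left _ hx
  have hA4fix : ∀ a ∈ A4, Commute g1 a := by
    intro a ha
    simp only [hA4, List.mem_cons, List.not_mem_nil, or_false] at ha
    have key : ∀ b c : F, τ b = b → τ c = c →
        (diagonal e).mulVec (τ ∘ pv 0 b c) = pv 0 b c := fun b c h1 h2 => by
      ext i
      rw [mulVec_diagonal]
      fin_cases i <;> simp [he, pv, h1, h2]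
    rcases ha with rfl | rfl | rfl | rfl
    · exact mul_inv_eq_iff_eq_mul.1 (C.pm_conj hM hkg hc (hb 0) (hb 0) (key _ _ (map_one τ) (map_zero τ)))
    · exact mul_inv_eq_iff_eq_mul.1 (C.pm_conj hM hkg hc hc1 hc1 (key _ _ (map_zero τ) (map_one τ)))
    · exact mul_inv_eq_iff_eq_mul.1 (C.pm_conj hM hkg hc (hb 1) (hb 1) (key _ _ (map_one τ) (map_one τ)))
    · exact hkg
  obtain ⟨FixFar, hFixFar⟩ : ∃ X : Set G, X = {x | x ∈ Far ∧ g1 * x * g1⁻¹ = x} := ⟨_, rfl⟩
  have h4 : 4 ∣ Nat.card FixFar := by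
    refine two_pow_dvd_card hD A4 (List.nodup_append.1 (hsix ▸ hsnd)).1 (fun a ha => (hsmem a (hA6 a ha)).1)
      (fun a ha b hb => hsc a (hA6 a ha) b (hA6 b hb)) FixFar (fun x hx => by
        rw [hFixFar] at hx; exact hFarD hx.1) (fun a ha x hx => ?_) (j := 1) (fun x hx => ?_)
    · rw [hFixFar] at hx ⊢
      refine ⟨hFarSt a (hsmem a (hA6 a ha)).2 x hx.1, ?_⟩
      have hga := (hA4fix a ha).eq
      calc g1 * (a * x * a⁻¹) * g1⁻¹ = (g1 * a) * x * (g1 * a)⁻¹ := by group
        _ = a * (g1 * x * g1⁻¹) * a⁻¹ := by rw [hga]; group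
        _ = a * x * a⁻¹ := by rw [hx.2]
    · rw [hFixFar] at hx
      have h := hfour x hx.1
      rw [hsix, List.filter_append, List.length_append] at h
      have h2 : ([M 0 1 ω, M 0 1 (frob hF ω)].filter fun a => decide (¬ Commute x a)).length ≤ 2 :=
        List.filter_sublist.length_le
      omega
  -- sizes
  have hne_d : d ∉ perp D d ∪ Far := by
    rintro (h | h)
    · exact h.2.1 rfl
    · rw [hFar] at h; exact h.2 (Commute.refl d)
  have hdisj : Disjoint (perp D d) Far := Set.disjoint_left.2 fun x h h' => by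
    rw [hFar] at h'; exact h'.2 h.2.2.symm
  have hDeq : D = insert d (perp D d ∪ Far) := by
    ext x
    simp only [Set.mem_insert_iff, Set.mem_union, hFar, Set.mem_setOf_eq, mem_perp]
    constructor
    · intro hx
      by_cases h : x = d
      · exact Or.inl h
      by_cases h' : Commute x d
      exacts [Or.inr (Or.inl ⟨hx, h, h'.symm⟩), Or.inr (Or.inr ⟨hx, h'⟩)]
    · rintro (rfl | h | h)
      exacts [C.mem, h.1, h.1]
  have hDcard : Nat.card D = 694 + Nat.card Far := by
    conv_lhs => rw [Nat.card_coe_set_eq, hDeq]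
    rw [Set.ncard_insert_of_notMem hne_d, Set.ncard_union_eq hdisj, ← Nat.card_coe_set_eq, C.card_perp,
      Nat.card_coe_set_eq]
    omega
  have hfix : Nat.card {x : ↥D // classPerm hD g1 x = x} = 32 + Nat.card FixFar := by
    obtain ⟨Q, hQ⟩ : ∃ Q : Set G, Q = {x | x ∈ perp D d ∧ g1 * x * g1⁻¹ = x} := ⟨_, rfl⟩
    have hQc : Nat.card Q = 31 := by
      rw [← C.card_fixed hkg he0 hsq hc]
      subst hQ
      exact Nat.card_congr (Equiv.subtypeSubtypeEquivSubtypeInter _ fun x => g1 * x * g1⁻¹ = x).symm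
    have hset : {x | x ∈ D ∧ g1 * x * g1⁻¹ = x} = insert d (Q ∪ FixFar) := by
      ext x
      simp only [Set.mem_insert_iff, Set.mem_union, hQ, hFixFar, Set.mem_setOf_eq]
      constructor
      · rintro ⟨hx, he⟩
        rw [hDeq] at hx
        rcases hx with hx | hx | hx
        exacts [Or.inl hx, Or.inr (Or.inl ⟨hx, he⟩), Or.inr (Or.inr ⟨hx, he⟩)]
      · rintro (rfl | h | h)
        exacts [⟨C.mem, by rw [hkg.eq, mul_inv_cancel_right]⟩, ⟨h.1.1, h.2⟩, ⟨hFarD h.1, h.2⟩]
    rw [show Nat.card {x : ↥D // classPerm hD g1 x = x} = Nat.card {x | x ∈ D ∧ g1 * x * g1⁻¹ = x} from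
      Nat.card_congr ((Equiv.subtypeEquivRight fun x => Subtype.ext_iff).trans
        (Equiv.subtypeSubtypeEquivSubtypeInter (· ∈ D) fun x => g1 * x * g1⁻¹ = x)),
      Nat.card_coe_set_eq, hset, Set.ncard_insert_of_notMem (fun h => hne_d ?_), Set.ncard_union_eq,
      ← Nat.card_coe_set_eq, hQc, Nat.card_coe_set_eq]
    · omega
    · exact hdisj.mono (fun x hx => by rw [hQ] at hx; exact hx.1) (fun x hx => by rw [hFixFar] at hx; exact hx.1)
    · rcases h with h | h
      · rw [hQ] at h; exact Or.inl h.1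
      · rw [hFixFar] at h; exact Or.inr h.1
  have hd2 : g1 * g1 * (g1 * g1) = 1 := by
    rcases hg2 with h | h <;> rw [h]
    exacts [one_mul 1, mul_self hD C.mem]
  obtain ⟨π, hπ⟩ : ∃ π, π = classPerm hD g1 := ⟨_, rfl⟩
  haveI : Fintype ↥D := Fintype.ofFinite _
  obtain ⟨a, b, hsupp, hsupp2, hsign⟩ := perm_four π (by
    rw [hπ, ← map_pow, show g1 ^ 4 = g1 * g1 * (g1 * g1) by simp [pow_succ, mul_assoc], hd2, map_one])
  have hcount := card_support_eq π
  rw [hsupp, hDcard, hπ, hfix] at hcount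
  have hodd : Odd (a + b) := by
    rw [Nat.odd_iff]
    rcases hg2 with h | h
    · have hb0 : π ^ 2 = 1 := by rw [hπ, ← map_pow, pow_two, h, map_one]
      rw [hb0] at hsupp2
      simp only [Equiv.Perm.support_one, Finset.card_empty] at hsupp2
      omega
    · have hf0 : Nat.card FixFar = 0 := by
        have : FixFar = ∅ := Set.eq_empty_iff_forall_notMem.2 fun x hx => by
          rw [hFixFar, hFar] at hx
          have hgx : Commute g1 x := mul_inv_eq_iff_eq_mul.1 hx.2
          exact hx.1.2 (h ▸ hgx.mul_left hgx).symm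
        simp [this]
      have hb : Nat.card {x : ↥D // (π ^ 2) x = x} = 694 := by
        have hset : {x | x ∈ D ∧ d * x * d⁻¹ = x} = insert d (perp D d) := by
          ext x
          simp only [Set.mem_insert_iff, Set.mem_setOf_eq, mem_perp, mul_inv_eq_iff_eq_mul]
          constructor
          · rintro ⟨hx, he⟩
            by_cases hxd : x = d
            exacts [Or.inl hxd, Or.inr ⟨hx, hxd, he⟩]
          · rintro (rfl | hx)
            exacts [⟨C.mem, rfl⟩, ⟨hx.1, hx.2.2⟩]
        have hp : π ^ 2 = classPerm hD d := by rw [hπ, ← map_pow, pow_two, h]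
        rw [hp, show Nat.card {x : ↥D // classPerm hD d x = x} = Nat.card {x | x ∈ D ∧ d * x * d⁻¹ = x} from
          Nat.card_congr ((Equiv.subtypeEquivRight fun x => Subtype.ext_iff).trans
            (Equiv.subtypeSubtypeEquivSubtypeInter (· ∈ D) fun x => d * x * d⁻¹ = x)),
          Nat.card_coe_set_eq, hset, Set.ncard_insert_of_notMem (fun h => h.2.1 rfl), ← Nat.card_coe_set_eq,
          C.card_perp]
      have hcount2 := card_support_eq (π ^ 2)
      rw [hsupp2, hDcard, hb] at hcount2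
      omega
  rw [hπ, C.sign_classPerm, hodd.neg_one_pow] at hsign
  exact absurd hsign (by decide)

end Coord

end Cfsg.Lib.Fischer.Relations
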