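import Cfsg.Agent.Lib.Fischer.Relations.Centralizer.DiagCase
import Cfsg.Agent.Lib.Fischer.Relations.Centralizer.FieldCase

/-!
# The centralizer of a member in type M(22) is its neighbourhood group
-/

set_option autoImplicit false
set_option linter.unusedSectionVars false

namespace Cfsg.Lib.Fischer.Relations

open Module Cfsg Cfsg.Lib.Fischer Cfsg.Lib.Linear.Herm Cfsg.Agent.S1631 Cfsg.Lib.Fischer.RadicalAbelian
open Cfsg.Lib.Linear

variable {G : Type*} [Group G] [Finite G] {D : Set G}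

theorem Coord.centralizer_eq {F : Type} [Field F] [Fintype F] {hF : Fintype.card F = 2 ^ 2} {d : G}
    (C : Coord D d hF) : Subgroup.closure (perp D d) = Subgroup.centralizer ({d} : Set G) := by
  refine le_antisymm C.closure_le fun g hg => ?_
  have hg' : Commute g d := Subgroup.mem_centralizer_singleton_iff.1 hg
  obtain ⟨A, τ, hA⟩ := C.semi g hg'
  have hτ := C.tau_id hg' hA
  exact C.mem_of_det hg' hA hτ (C.det_eq_one hg' hA hτ)

/-- Coordinates at one member of a class of type M(22). -/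
theorem m22_coord (hT : Trans D) (hprim : Cfsg.IsPrimitiveUnderConj D) (h22 : Cfsg.IsOfTypeM22 G D) :
    ∃ (F : Type) (_ : Field F) (_ : Fintype F) (hF : Fintype.card F = 2 ^ 2) (d : G),
      Nonempty (Coord D d hF) := by
  obtain ⟨hZ, d, hd, c, -, -, ⟨F, i1, i2, hF, ⟨e⟩⟩, -⟩ := h22
  have hF' : Fintype.card F = 2 ^ 2 := hF
  obtain ⟨b, hb⟩ := perp_nonempty_of_psu (D := D) hF' e
  have hw : ∃ a ∈ D, ∃ b ∈ D, a ≠ b ∧ Commute a b := ⟨d, hd, b, hb.1, Ne.symm hb.2.1, hb.2.2⟩
  have hsep := sep_of_core hT hprim.2.1 (core_le_center_of_primitive hT hprim hw).1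
  obtain ⟨U⟩ := exists_udata hT hsep hd hF' e
  exact ⟨F, i1, i2, hF', d, exists_coord (isFischer_of_primitive hT hprim hw hZ) hprim hZ hsep
    (fun a ha => by obtain ⟨g, rfl⟩ := hT.trans d hd a ha; exact ⟨U.conj hT g⟩) hd e⟩

theorem map_conj_closure_perp (hT : Trans D) (g d : G) :
    (Subgroup.closure (perp D d)).map (MulAut.conj g).toMonoidHom = Subgroup.closure (perp D (g * d * g⁻¹)) := by
  rw [MonoidHom.map_closure]
  congr 1
  ext z
  rw [mem_perp_conj hT]
  refine ⟨?_, fun h => ⟨_, h, by simp [mul_assoc]⟩⟩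
  rintro ⟨y, hy, rfl⟩
  simpa [mul_assoc] using hy

/-- In type M(22) the centralizer of each member is generated by its neighbours. -/
theorem centralizer_eq_closure (hT : Trans D) (hprim : Cfsg.IsPrimitiveUnderConj D)
    (h22 : Cfsg.IsOfTypeM22 G D) {d : G} (hd : d ∈ D) :
    Subgroup.closure (perp D d) = Subgroup.centralizer ({d} : Set G) := by
  obtain ⟨F, _, _, hF, d₁, ⟨C⟩⟩ := m22_coord hT hprim h22
  obtain ⟨g, rfl⟩ := hT.trans d₁ C.mem d hd
  rw [← map_conj_closure_perp hT g d₁, C.centralizer_eq]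
  ext x
  rw [Subgroup.mem_map, Subgroup.mem_centralizer_singleton_iff]
  constructor
  · rintro ⟨y, hy, rfl⟩
    have := Subgroup.mem_centralizer_singleton_iff.1 hy
    exact (Commute.conj_iff g).2 this
  · intro hx
    refine ⟨g⁻¹ * x * g, Subgroup.mem_centralizer_singleton_iff.2 ?_, by simp [mul_assoc]⟩
    refine ((Commute.conj_iff g).1 ?_).eq
    rwa [show g * (g⁻¹ * x * g) * g⁻¹ = x by simp [mul_assoc]]

end Cfsg.Lib.Fischer.Relations
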