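import Cfsg.Agent.Lib.Fischer.Relations.Centralizer.Order

/-!
# Commuting triples in a class of type M(22)

Ordered triples of distinct pairwise commuting members form one orbit, and six members of a hexad give the two
triples with a given product; this yields the centralizer order of such a product.
-/

set_option autoImplicit false
set_option linter.unusedSectionVars false

namespace Cfsg.Lib.Fischer.Relations

open Module Cfsg Cfsg.Lib.Fischer Cfsg.Lib.Linear.Herm Cfsg.Agent.S1631 Cfsg.Lib.Fischer.RadicalAbelian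
open Cfsg.Lib.Linear

variable {G : Type*} [Group G] [Finite G] {D : Set G}
  {F : Type} [Field F] [Fintype F] {hF : Fintype.card F = 2 ^ 2} {d : G}

/-- Three distinct pairwise commuting members. -/
def IsTriple (D : Set G) (p : G × G × G) : Prop :=
  [p.1, p.2.1, p.2.2].Nodup ∧ (∀ x ∈ [p.1, p.2.1, p.2.2], x ∈ D) ∧
    ∀ x ∈ [p.1, p.2.1, p.2.2], ∀ y ∈ [p.1, p.2.1, p.2.2], Commute x y

theorem IsTriple.mk {a b c : G} (ha : a ∈ D) (hb : b ∈ D) (hc : c ∈ D) (h1 : a ≠ b) (h2 : a ≠ c) (h3 : b ≠ c)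
    (c1 : Commute a b) (c2 : Commute a c) (c3 : Commute b c) : IsTriple D (a, b, c) := by
  refine ⟨by simp [h1, h2, h3], by simp [ha, hb, hc], ?_⟩
  simp [c1, c2, c3, c1.symm, c2.symm, c3.symm]

theorem IsTriple.mem {a b c : G} (h : IsTriple D (a, b, c)) : a ∈ D ∧ b ∈ perp D a ∧ c ∈ perp D a ∧ c ∈ perp D b := by
  obtain ⟨hn, hl, hc⟩ := h
  obtain ⟨⟨h1, h2⟩, h3⟩ : (a ≠ b ∧ a ≠ c) ∧ b ≠ c := by simpa using hn
  exact ⟨hl a (by simp), ⟨hl b (by simp), h1.symm, hc a (by simp) b (by simp)⟩,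
    ⟨hl c (by simp), h2.symm, hc a (by simp) c (by simp)⟩, ⟨hl c (by simp), h3.symm, hc b (by simp) c (by simp)⟩⟩

theorem IsTriple.conj (hD : Trans D) {a b c : G} (h : IsTriple D (a, b, c)) (g : G) :
    IsTriple D (g * a * g⁻¹, g * b * g⁻¹, g * c * g⁻¹) := by
  obtain ⟨ha, hb, hc, hc'⟩ := h.mem
  exact IsTriple.mk (hD.conj g a ha) (hD.conj g b hb.1) (hD.conj g c hc.1)
    (fun e => hb.2.1 ((MulAut.conj g).injective e).symm) (fun e => hc.2.1 ((MulAut.conj g).injective e).symm)
    (fun e => hc'.2.1 ((MulAut.conj g).injective e).symm)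
    ((Commute.conj_iff g).2 hb.2.2) ((Commute.conj_iff g).2 hc.2.2) ((Commute.conj_iff g).2 hc'.2.2)

section Transitive

variable (hF' : IsFischer D) (hU : ∀ a ∈ D, Nonempty (UData (perp D a) (hB hF 6)))
include hF' hU

/-- The members commuting with two commuting members form one class of the group they generate. -/
theorem common_transitive {a b t t' : G} (ha : a ∈ D) (hb : b ∈ perp D a) (ht : t ∈ perp D a) (htb : t ∈ perp D b)
    (ht' : t' ∈ perp D a) (htb' : t' ∈ perp D b) :
    ∃ g : G, g * a * g⁻¹ = a ∧ g * b * g⁻¹ = b ∧ g * t * g⁻¹ = t' := by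
  classical
  have hD := hF'.toTrans
  have hK := fourField hF
  have hS := hB_isSymm hF 6
  have hB' := hB_nondegenerate hF 6
  have h5 : 5 ≤ finrank F (Fin 6 → F) := by rw [finrank_fin_fun]; norm_num
  obtain ⟨U⟩ := hU a ha
  -- some common neighbour does not commute with a given one
  have hex : ∀ x, x ∈ perp D a → x ∈ perp D b → ∃ u, u ∈ perp D a ∧ u ∈ perp D b ∧ ¬ Commute u x := by
    intro x hx hxb
    by_contra h
    push Not at h
    obtain ⟨k, hk⟩ := Linear.mem_span_of_perp hK hS hB' h5 (p := U.c b) (q := U.c x) fun r hr hr0 hbr => by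
      obtain ⟨u, hu, j, hj, hc⟩ := U.every r hr hr0
      by_cases hub : u = b
      · have := (U.comm x hx u hu).1 (hub ▸ hxb.2.2.symm)
        rw [hc, map_smul, smul_eq_mul] at this
        exact (mul_eq_zero.1 this).resolve_left hj
      · have hbu : Commute b u := (U.comm b hb u hu).2 (by rw [hc, map_smul, hbr, smul_zero])
        have := (U.comm x hx u hu).1 (h u hu ⟨hu.1, hub, hbu⟩).symm
        rw [hc, map_smul, smul_eq_mul] at this
        exact (mul_eq_zero.1 this).resolve_left hj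
    exact hxb.2.1 (U.inj b hb x hx k hk).symm
  -- non-commuting common neighbours are conjugate
  have step : ∀ u v, u ∈ perp D a → u ∈ perp D b → v ∈ perp D a → v ∈ perp D b → ¬ Commute u v →
      ∃ g : G, g * a * g⁻¹ = a ∧ g * b * g⁻¹ = b ∧ g * u * g⁻¹ = v := by
    intro u v hu hub hv hvb hn
    refine ⟨u * v, ?_, ?_, ?_⟩
    · rw [(hu.2.2.symm.mul_left hv.2.2.symm).eq, mul_inv_cancel_right]
    · rw [(hub.2.2.symm.mul_left hvb.2.2.symm).eq, mul_inv_cancel_right]
    · calc u * v * u * (u * v)⁻¹ = u * v * u * (v⁻¹ * u⁻¹) := by group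
        _ = cj u (cj v u) := by rw [inv_eq hD hu.1, inv_eq hD hv.1]; simp only [cj_def, mul_assoc]
        _ = v := by rw [← braid hD hu.1 hv.1 hn, cj_cj hD hu.1]
  have trans' : ∀ {x y z : G}, (∃ g : G, g * a * g⁻¹ = a ∧ g * b * g⁻¹ = b ∧ g * x * g⁻¹ = y) →
      (∃ g : G, g * a * g⁻¹ = a ∧ g * b * g⁻¹ = b ∧ g * y * g⁻¹ = z) →
      ∃ g : G, g * a * g⁻¹ = a ∧ g * b * g⁻¹ = b ∧ g * x * g⁻¹ = z := by
    rintro x y z ⟨g, ga, gb, gx⟩ ⟨h, hha, hhb, hhy⟩
    have e : ∀ w, h * g * w * (h * g)⁻¹ = h * (g * w * g⁻¹) * h⁻¹ := fun w => by group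
    exact ⟨h * g, by rw [e, ga, hha], by rw [e, gb, hhb], by rw [e, gx, hhy]⟩
  obtain ⟨u, hu, hub, hut⟩ := hex t ht htb
  obtain ⟨v, hv, hvb, hvt⟩ := hex t' ht' htb'
  by_cases h1 : Commute u t'
  swap
  · exact trans' (step t u ht htb hu hub fun h => hut h.symm) (step u t' hu hub ht' htb' h1)
  by_cases h2 : Commute v t
  swap
  · exact trans' (step t v ht htb hv hvb fun h => h2 h.symm) (step v t' hv hvb ht' htb' hvt)
  by_cases h3 : Commute u v
  swap
  · exact trans' (step t u ht htb hu hub fun h => hut h.symm)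
      (trans' (step u v hu hub hv hvb h3) (step v t' hv hvb ht' htb' hvt))
  -- a third point on the line of two commuting connecting members
  have huv := (U.comm u hu v hv).1 h3
  have hvu : hB hF 6 (U.c v) (U.c u) = 0 := hS.isRefl _ _ huv
  obtain ⟨w, hw, k, hk, hwc⟩ := U.every (U.c u + U.c v)
    (by simp [U.iso u hu, U.iso v hv, huv, hvu]) (by
      intro h
      have h0 := (U.comm t ht v hv).1 h2.symm
      have h0' : hB hF 6 (U.c t) (U.c u + U.c v) = 0 := by rw [h, map_zero]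
      rw [map_add, h0, add_zero] at h0'
      exact hut ((U.comm t ht u hu).2 h0').symm)
  have hwt : ¬ Commute t w := fun h => by
    have := (U.comm t ht w hw).1 h
    rw [hwc, map_smul, map_add, (U.comm t ht v hv).1 h2.symm, add_zero, smul_eq_mul] at this
    exact hut ((U.comm t ht u hu).2 ((mul_eq_zero.1 this).resolve_left hk)).symm
  have hwt' : ¬ Commute t' w := fun h => by
    have := (U.comm t' ht' w hw).1 h
    rw [hwc, map_smul, map_add, (U.comm t' ht' u hu).1 h1.symm, zero_add, smul_eq_mul] at this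
    exact hvt ((U.comm t' ht' v hv).2 ((mul_eq_zero.1 this).resolve_left hk)).symm
  have hwb : w ∈ perp D b := by
    refine ⟨hw.1, fun e => hwt (e ▸ htb.2.2.symm), (U.comm b hb w hw).2 ?_⟩
    rw [hwc, map_smul, map_add, (U.comm b hb u hu).1 hub.2.2, (U.comm b hb v hv).1 hvb.2.2, add_zero, smul_zero]
  exact trans' (step t w ht htb hw hwb hwt) (step w t' hw hwb ht' htb' fun h => hwt' h.symm)

/-- Ordered triples form one orbit. -/
theorem triple_transitive {a b c a' b' c' : G} (h : IsTriple D (a, b, c)) (h' : IsTriple D (a', b', c')) :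
    ∃ g : G, g * a * g⁻¹ = a' ∧ g * b * g⁻¹ = b' ∧ g * c * g⁻¹ = c' := by
  have hD := hF'.toTrans
  obtain ⟨ha', hb', hc', hcb'⟩ := h'.mem
  obtain ⟨g₁, e₁⟩ := hD.trans a h.mem.1 a' ha'
  have h1 := h.conj hD g₁
  rw [e₁] at h1
  obtain ⟨g₂, hg₂, e₂⟩ := perp_transitive hF' ha' h1.mem.2.1 hb'
  have f₂ : g₂ * a' * g₂⁻¹ = a' := by
    rw [(commute_of_mem_closure hF' ha' (Subgroup.closure_mono (Set.subset_insert _ _) hg₂)).eq, mul_inv_cancel_right]
  have h2 := h1.conj hD g₂
  rw [e₂, f₂] at h2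
  obtain ⟨g₃, f₃, f₃', e₃⟩ := common_transitive hF' hU ha' hb' h2.mem.2.2.1 h2.mem.2.2.2 hc' hcb'
  have e : ∀ w, g₃ * g₂ * g₁ * w * (g₃ * g₂ * g₁)⁻¹ = g₃ * (g₂ * (g₁ * w * g₁⁻¹) * g₂⁻¹) * g₃⁻¹ := fun w => by group
  exact ⟨g₃ * g₂ * g₁, by rw [e, e₁, f₂, f₃], by rw [e, e₂, f₃'], by rw [e, e₃]⟩

end Transitive

namespace Coord

variable (C : Coord D d hF)
include C

/-- Two commuting members have 180 common neighbours. -/
theorem card_common {s : G} (hs : s ∈ perp D d) : Nat.card {t | t ∈ perp D d ∧ t ∈ perp D s} = 180 := by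
  have h := C.card_common_perp hs
  have hins : {t | t ∈ perp D d ∧ Commute s t} = insert s {t | t ∈ perp D d ∧ t ∈ perp D s} := by
    ext t
    simp only [Set.mem_setOf_eq, Set.mem_insert_iff]
    constructor
    · rintro ⟨h1, h2⟩
      by_cases e : t = s
      exacts [Or.inl e, Or.inr ⟨h1, h1.1, e, h2⟩]
    · rintro (rfl | ⟨h1, h2⟩)
      exacts [⟨hs, Commute.refl _⟩, ⟨h1, h2.2.2⟩]
  rw [hins, Nat.card_coe_set_eq, Set.ncard_insert_of_notMem (fun h => h.2.2.1 rfl), ← Nat.card_coe_set_eq] at h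
  omega

/-- The order of the stabilizer of an ordered triple. -/
theorem card_triple_stabilizer {b c : G} (h : IsTriple D (d, b, c))
    (hG : Nat.card G = 2 ^ 17 * 3 ^ 9 * 5 ^ 2 * 7 * 11 * 13) (hDc : D.ncard = 3510) :
    Nat.card ↥(Subgroup.centralizer ({d} : Set G) ⊓ Subgroup.centralizer ({b} : Set G) ⊓
      Subgroup.centralizer ({c} : Set G)) = 2 ^ 14 * 3 ^ 2 := by
  obtain ⟨-, hb, hc, hcb⟩ := h.mem
  have hcen : ∀ {x g : G}, g * x * g⁻¹ = x → g ∈ Subgroup.centralizer ({x} : Set G) := fun {x g} e =>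
    Subgroup.mem_centralizer_singleton_iff.2 (mul_inv_eq_iff_eq_mul.1 e)
  have hfix : ∀ {x k : G}, k ∈ Subgroup.centralizer ({x} : Set G) → k * x * k⁻¹ = x := fun {x k} hk => by
    rw [Subgroup.mem_centralizer_singleton_iff.1 hk, mul_inv_cancel_right]
  have h1 := card_conj_orbit (K := (⊤ : Subgroup G)) C.mem (fun k _ y hy => C.trans.conj k y hy)
    fun y hy => by obtain ⟨g, hg⟩ := C.trans.trans d C.mem y hy; exact ⟨g, Subgroup.mem_top g, hg⟩
  rw [top_inf_eq, Subgroup.card_top, Nat.card_coe_set_eq, hDc, hG] at h1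
  have h2 := card_conj_orbit (K := Subgroup.centralizer ({d} : Set G)) hb
    (fun k hk y hy => C.conj_mem (Subgroup.mem_centralizer_singleton_iff.1 hk) hy) fun y hy => by
      obtain ⟨g, hg, e⟩ := perp_transitive C.fis C.mem hb hy
      exact ⟨g, C.closure_le hg, e⟩
  rw [C.card_perp] at h2
  have h3 := card_conj_orbit (K := Subgroup.centralizer ({d} : Set G) ⊓ Subgroup.centralizer ({b} : Set G))
    (X := {t | t ∈ perp D d ∧ t ∈ perp D b}) (x := c) ⟨hc, hcb⟩
    (fun k hk y hy => by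
      have e2 := (mem_perp_conj C.trans k b (k * y * k⁻¹)).2 (by simpa [mul_assoc] using hy.2)
      rw [hfix hk.2] at e2
      exact ⟨C.conj_mem (Subgroup.mem_centralizer_singleton_iff.1 hk.1) hy.1, e2⟩)
    fun y hy => by
      obtain ⟨g, f, f', e⟩ := common_transitive C.fis C.nbr C.mem hb hc hcb hy.1 hy.2
      exact ⟨g, ⟨hcen f, hcen f'⟩, e⟩
  rw [C.card_common hb] at h3
  rw [h3] at h2
  rw [h2] at h1
  norm_num at h1 ⊢
  omega

end Coord

/-- The centralizer of a product of three commuting members. -/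
theorem Coord.card_centralizer_triple (C : Coord D d hF) {b c : G} (h : IsTriple D (d, b, c))
    (hG : Nat.card G = 2 ^ 17 * 3 ^ 9 * 5 ^ 2 * 7 * 11 * 13) (hDc : D.ncard = 3510) :
    Nat.card ↥(Subgroup.centralizer ({d * b * c} : Set G)) = 2 ^ 16 * 3 ^ 3 := by
  classical
  have hD := C.trans
  have hK := fourField hF
  have hS := hB_isSymm hF 6
  have hB' := hB_nondegenerate hF 6
  have h5 : 5 ≤ finrank F (Fin 6 → F) := by rw [finrank_fin_fun]; norm_num
  obtain ⟨hnd, hl, hc⟩ : [d, b, c].Nodup ∧ (∀ x ∈ [d, b, c], x ∈ D) ∧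
      ∀ x ∈ [d, b, c], ∀ y ∈ [d, b, c], Commute x y := id h
  obtain ⟨-, hb, -, -⟩ := h.mem
  obtain ⟨e, f, g, ⟨hnd', hl', hc', hp⟩, he, huni⟩ := three_exactly_two hD C.prim C.cen C.sep C.nbr hnd hl hc
  have hj : ∀ x y z : G, [x, y, z].prod = x * y * z := fun x y z => by simp [mul_assoc]
  have hE : IsTriple D (e, f, g) := ⟨hnd', hl', hc'⟩
  rw [hj e f g, hj d b c] at hp
  -- the other triple is disjoint from the given one
  have share : ∀ x ∈ [e, f, g], x ∉ [d, b, c] := by
    intro x hx hx0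
    have p1 := List.perm_cons_erase hx
    have p0 := List.perm_cons_erase hx0
    have e1 : x * ([e, f, g].erase x).prod = x * ([d, b, c].erase x).prod := by
      rw [← List.prod_cons, ← List.prod_cons, ← prod_perm p1 hc', ← prod_perm p0 hc, hj, hj, hp]
    have hpair := mem_iff_of_prod_eq hD
      (noRel_five hD hK hS hB' h5 C.mem C.U ⟨d, C.mem, b, hb.1, hb.2.1.symm⟩) (hnd'.erase x) (hnd.erase x)
      (fun y hy => hl' y (List.mem_of_mem_erase hy)) (fun y hy => hl y (List.mem_of_mem_erase hy))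
      (fun y hy z hz => hc' y (List.mem_of_mem_erase hy) z (List.mem_of_mem_erase hz))
      (fun y hy z hz => hc y (List.mem_of_mem_erase hy) z (List.mem_of_mem_erase hz))
      (by rw [List.length_erase_of_mem hx]; simp)
      (by rw [List.length_erase_of_mem hx, List.length_erase_of_mem hx0]; simp)
      (mul_left_cancel e1)
    refine he ?_
    rcases eq_or_ne e x with rfl | hex
    · exact hx0
    · exact List.mem_of_mem_erase ((hpair e).1 ((List.mem_erase_of_ne hex).2 (by simp)))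
  obtain ⟨P, hP⟩ : ∃ P : G → G → G → List (G × G × G), P = fun x y z =>
      [(x, y, z), (x, z, y), (y, x, z), (y, z, x), (z, x, y), (z, y, x)] := ⟨_, rfl⟩
  -- members of the list are triples with the same product
  have hPt : ∀ x y z, IsTriple D (x, y, z) → ∀ p ∈ P x y z, IsTriple D p ∧ p.1 * p.2.1 * p.2.2 = x * y * z := by
    intro x y z ht p hp'
    have key : [p.1, p.2.1, p.2.2].Perm [x, y, z] := by
      rw [hP] at hp'
      simp only [List.mem_cons, List.not_mem_nil, or_false] at hp'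
      rcases hp' with rfl | rfl | rfl | rfl | rfl | rfl
      · exact List.Perm.refl _
      · exact List.Perm.cons x (List.Perm.swap y z [])
      · exact List.Perm.swap x y [z]
      · exact ((List.Perm.swap x z []).cons y).trans (List.Perm.swap x y [z])
      · exact (List.Perm.swap x z [y]).trans ((List.Perm.swap y z []).cons x)
      · exact ((List.Perm.swap x y []).cons z).trans ((List.Perm.swap x z [y]).trans ((List.Perm.swap y z []).cons x))
    refine ⟨⟨key.nodup_iff.2 ht.1, fun w hw => ht.2.1 w (key.mem_iff.1 hw),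
      fun w hw w' hw' => ht.2.2 w (key.mem_iff.1 hw) w' (key.mem_iff.1 hw')⟩, ?_⟩
    rw [← hj, ← hj]
    exact prod_perm key fun w hw w' hw' => ht.2.2 w (key.mem_iff.1 hw) w' (key.mem_iff.1 hw')
  obtain ⟨L, hL⟩ : ∃ L, L = P d b c ++ P e f g := ⟨_, rfl⟩
  have hLt : ∀ p ∈ L, IsTriple D p ∧ p.1 * p.2.1 * p.2.2 = d * b * c := by
    intro p hp'
    rw [hL, List.mem_append] at hp'
    rcases hp' with hp' | hp'
    · exact hPt d b c h p hp'
    · exact ⟨(hPt e f g hE p hp').1, (hPt e f g hE p hp').2.trans hp⟩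
  have hLall : ∀ p, IsTriple D p → p.1 * p.2.1 * p.2.2 = d * b * c → p ∈ L := by
    rintro ⟨x, y, z⟩ ht hpr
    have hmem : ∀ u v w : G, (∀ s, s ∈ [x, y, z] ↔ s ∈ [u, v, w]) → (x, y, z) ∈ P u v w := by
      intro u v w hs
      have hn : (x ≠ y ∧ x ≠ z) ∧ y ≠ z := by simpa using ht.1
      have hx := (hs x).1 (by simp)
      have hy := (hs y).1 (by simp)
      have hz := (hs z).1 (by simp)
      simp only [List.mem_cons, List.not_mem_nil, or_false] at hx hy hz
      rw [hP]
      rcases hx with rfl | rfl | rfl <;> rcases hy with rfl | rfl | rfl <;> rcases hz with rfl | rfl | rfl <;>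
        first
          | exact absurd rfl hn.1.1
          | exact absurd rfl hn.1.2
          | exact absurd rfl hn.2
          | simp
    rw [hL, List.mem_append]
    rcases huni [x, y, z] ht.1 rfl ht.2.1 ht.2.2 (by rw [hj, hj]; exact hpr) with hs | hs
    · exact Or.inl (hmem _ _ _ hs)
    · exact Or.inr (hmem _ _ _ hs)
  have hLn : L.Nodup := by
    obtain ⟨⟨n1, n2⟩, n3⟩ : (d ≠ b ∧ d ≠ c) ∧ b ≠ c := by simpa using hnd
    obtain ⟨⟨m1, m2⟩, m3⟩ : (e ≠ f ∧ e ≠ g) ∧ f ≠ g := by simpa using hnd'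
    have s1 := share e (by simp)
    have s2 := share f (by simp)
    have s3 := share g (by simp)
    simp only [List.mem_cons, List.not_mem_nil, or_false, not_or] at s1 s2 s3
    rw [hL, hP]
    simp [n1, n2, n3, m1, m2, m3, n1.symm, n2.symm, n3.symm, m1.symm, m2.symm, m3.symm, s1.1, s1.2.1, s1.2.2,
      s2.1, s2.2.1, s2.2.2, s3.1, s3.2.1, s3.2.2, Ne.symm s1.1, Ne.symm s1.2.1, Ne.symm s1.2.2, Ne.symm s2.1,
      Ne.symm s2.2.1, Ne.symm s2.2.2, Ne.symm s3.1, Ne.symm s3.2.1, Ne.symm s3.2.2]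
  have hLc : Nat.card {p : G × G × G | p ∈ L} = 12 := by
    rw [Nat.card_coe_set_eq, ← List.coe_toFinset, Set.ncard_coe_finset, List.toFinset_card_of_nodup hLn, hL, hP]
    rfl
  obtain ⟨δ, hδ⟩ : ∃ δ : G →* G × G × G, δ = (MonoidHom.id G).prod ((MonoidHom.id G).prod (MonoidHom.id G)) := ⟨_, rfl⟩
  have hinj : Function.Injective δ := fun u v huv => by rw [hδ] at huv; exact congrArg Prod.fst huv
  have hst := card_conj_orbit (K := (Subgroup.centralizer ({d * b * c} : Set G)).map δ)
    (X := {p : G × G × G | p ∈ L}) (x := (d, b, c)) (hLall _ h rfl)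
    (by
      rintro _ ⟨k, hk, rfl⟩ ⟨x, y, z⟩ hy
      obtain ⟨ht, hpr⟩ := hLt _ hy
      rw [hδ]
      refine hLall _ (ht.conj hD k) ?_
      show k * x * k⁻¹ * (k * y * k⁻¹) * (k * z * k⁻¹) = d * b * c
      calc k * x * k⁻¹ * (k * y * k⁻¹) * (k * z * k⁻¹) = k * (x * y * z) * k⁻¹ := by group
        _ = d * b * c := by
          rw [show x * y * z = d * b * c from hpr, Subgroup.mem_centralizer_singleton_iff.1 hk, mul_inv_cancel_right])
    (by
      rintro ⟨x, y, z⟩ hy
      obtain ⟨ht, hpr⟩ := hLt _ hy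
      obtain ⟨k, k1, k2, k3⟩ := triple_transitive C.fis C.nbr h ht
      refine ⟨δ k, Subgroup.mem_map_of_mem δ ?_, ?_⟩
      · refine Subgroup.mem_centralizer_singleton_iff.2 (mul_inv_eq_iff_eq_mul.1 ?_)
        calc k * (d * b * c) * k⁻¹ = k * d * k⁻¹ * (k * b * k⁻¹) * (k * c * k⁻¹) := by group
          _ = d * b * c := by rw [k1, k2, k3]; exact hpr
      · rw [hδ, ← k1, ← k2, ← k3]; rfl)
  have hK' : (Subgroup.centralizer ({d * b * c} : Set G)).map δ ⊓ Subgroup.centralizer ({(d, b, c)} : Set (G × G × G)) =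
      (Subgroup.centralizer ({d} : Set G) ⊓ Subgroup.centralizer ({b} : Set G) ⊓
        Subgroup.centralizer ({c} : Set G)).map δ := by
    ext p
    constructor
    · rintro ⟨⟨k, -, rfl⟩, h2⟩
      have h2' := Subgroup.mem_centralizer_singleton_iff.1 h2
      refine Subgroup.mem_map_of_mem δ ?_
      rw [hδ] at h2'
      simp only [MonoidHom.prod_apply, MonoidHom.id_apply, Prod.mk_mul_mk, Prod.mk.injEq] at h2'
      simp only [Subgroup.mem_inf, Subgroup.mem_centralizer_singleton_iff]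
      exact ⟨⟨h2'.1, h2'.2.1⟩, h2'.2.2⟩
    · rintro ⟨k, ⟨⟨k1, k2⟩, k3⟩, rfl⟩
      replace k1 : k * d = d * k := Subgroup.mem_centralizer_singleton_iff.1 k1
      replace k2 : k * b = b * k := Subgroup.mem_centralizer_singleton_iff.1 k2
      replace k3 : k * c = c * k := Subgroup.mem_centralizer_singleton_iff.1 k3
      refine ⟨Subgroup.mem_map_of_mem δ (Subgroup.mem_centralizer_singleton_iff.2 ?_),
        Subgroup.mem_centralizer_singleton_iff.2 ?_⟩
      · exact ((show Commute k d from k1).mul_right k2).mul_right k3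
      · rw [hδ]
        simp [MonoidHom.prod_apply, Prod.mk_mul_mk, k1, k2, k3]
  rw [hK', Subgroup.card_map_of_injective hinj, Subgroup.card_map_of_injective hinj, hLc,
    C.card_triple_stabilizer h hG hDc] at hst
  rw [hst]
  norm_num

/-- The centralizer of a product of three distinct commuting members in type M(22). -/
theorem m22_card_centralizer_triple (hT : Trans D) (hprim : Cfsg.IsPrimitiveUnderConj D)
    (h22 : Cfsg.IsOfTypeM22 G D) {a b c : G} (h : IsTriple D (a, b, c)) :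
    Nat.card ↥(Subgroup.centralizer ({a * b * c} : Set G)) = 2 ^ 16 * 3 ^ 3 := by
  obtain ⟨F, _, _, hF, d₁, ⟨C⟩⟩ := m22_coord hT hprim h22
  obtain ⟨hDc, hG, -⟩ := m22_order hT hprim h22
  obtain ⟨g, hg⟩ := hT.trans a h.mem.1 d₁ C.mem
  have h' := h.conj hT g
  rw [hg] at h'
  have e : (Subgroup.centralizer ({a * b * c} : Set G)).map (MulAut.conj g).toMonoidHom =
      Subgroup.centralizer ({d₁ * (g * b * g⁻¹) * (g * c * g⁻¹)} : Set G) := by
    rw [← hg]
    have hcj : g * a * g⁻¹ * (g * b * g⁻¹) * (g * c * g⁻¹) = g * (a * b * c) * g⁻¹ := by group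
    rw [hcj]
    ext x
    simp only [Subgroup.mem_map, MulEquiv.coe_toMonoidHom, MulAut.conj_apply, Subgroup.mem_centralizer_singleton_iff]
    constructor
    · rintro ⟨y, hy, rfl⟩
      exact (Commute.conj_iff g).2 hy
    · intro hx
      refine ⟨g⁻¹ * x * g, ?_, by group⟩
      have := (Commute.conj_iff g⁻¹).2 (show Commute x (g * (a * b * c) * g⁻¹) from hx)
      simpa [mul_assoc, Commute, SemiconjBy] using this
  rw [← Subgroup.card_map_of_injective (f := (MulAut.conj g).toMonoidHom) (MulAut.conj g).injective, e]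
  exact C.card_centralizer_triple h' hG hDc

end Cfsg.Lib.Fischer.Relations
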