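import Cfsg.Agent.Lib.H3.SylTwoDiag
import Cfsg.Agent.Lib.Linear.OrthReflThreeStructure
import Cfsg.Agent.Lib.Linear.NondegFix.EvenCount
import Mathlib.LinearAlgebra.QuadraticForm.IsometryEquiv

/-!
# The order of the projective reflection group of discriminant one in dimension six over three elements

The isometry group is that of minus type, the reflections of one norm generate a subgroup of index two,
and its centre consists of scalars.
-/

set_option autoImplicit false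
set_option linter.unusedSectionVars false

namespace Cfsg.Lib.Fischer.Relations.ReflSix

open Module Matrix Cfsg Cfsg.Lib.Linear.Orth Cfsg.Lib.H3.SylTwo

theorem two_ne : (2 : ZMod 3) ≠ 0 := by decide

theorem z3_disc : ∀ a p : ZMod 3, a * (2 ^ 6 * p) * a = 1 → p = 1 := by decide

theorem z3_d : ∀ i : (Fin 2 ⊕ Fin 2) ⊕ Fin 2,
    Sum.elim (Sum.elim (fun _ => (1 : ZMod 3)) (fun _ => 2)) (fun _ => 1) i ≠ 0 := by decide

theorem z3_dprod : IsSquare ((1 : ZMod 3) * ∏ i : (Fin 2 ⊕ Fin 2) ⊕ Fin 2,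
    Sum.elim (Sum.elim (fun _ => (1 : ZMod 3)) (fun _ => 2)) (fun _ => 1) i) := ⟨1, by decide⟩

theorem z3_inv : ∀ e k : ZMod 3, k * e = 1 → k = e := by decide

theorem z3_cases : ∀ a c : ZMod 3, a ≠ 0 → c ≠ 0 → a = c ∨ a + a = c := by decide

theorem z3_pair : ∀ a a' c : ZMod 3, a + a = c → a' + a' = c → a + a' = c := by decide

theorem z3_three : ∀ a c : ZMod 3, a + a = c → a + (c + c) = c := by decide

theorem z3_three_zero : (3 : ZMod 3) = 0 := by decide

theorem z3_aniso : ∀ z₁ z₂ : ZMod 3, z₁ ^ 2 + 0 * z₁ * z₂ + 1 * z₂ ^ 2 = 0 → z₁ = 0 ∧ z₂ = 0 := by decide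

theorem fin6_two : ∀ i : Fin 6, ∃ j k, j ≠ i ∧ k ≠ i ∧ j ≠ k := by decide

/-- A diagonalisation, whose coefficients multiply to one. -/
theorem exists_diagonal (Q : QuadraticForm (ZMod 3) (Fin 6 → ZMod 3))
    (hQ : (QuadraticMap.polarBilin Q).Nondegenerate) (hdet : Cfsg.polarGramDet (⇑Q) = 1) :
    ∃ (w : Fin 6 → ZMod 3) (f : (Fin 6 → ZMod 3) ≃ₗ[ZMod 3] (Fin 6 → ZMod 3)),
      (∀ i, w i ≠ 0) ∧ (∀ v, diagQ w (f v) = Q v) ∧ ∏ i, w i = 1 := by
  haveI : Fact (Nat.Prime 3) := ⟨Nat.prime_three⟩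
  haveI : Invertible (2 : ZMod 3) := invertibleOfNonzero two_ne
  obtain ⟨w₀, ⟨e₀⟩⟩ := QuadraticForm.equivalent_weightedSumSquares Q
  obtain ⟨hd, hd'⟩ : Module.finrank (ZMod 3) (Fin 6 → ZMod 3) = 6 ∧ True := ⟨finrank_fin_fun _, trivial⟩
  obtain ⟨w, hw⟩ : ∃ w : Fin 6 → ZMod 3, w = fun i => w₀ (i.cast hd.symm) := ⟨_, rfl⟩
  let f : (Fin 6 → ZMod 3) ≃ₗ[ZMod 3] (Fin 6 → ZMod 3) :=
    e₀.toLinearEquiv.trans (LinearEquiv.funCongrLeft (ZMod 3) (ZMod 3) (finCongr hd.symm))
  have hf : ∀ v, diagQ w (f v) = Q v := fun v => by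
    rw [← e₀.map_app v, QuadraticMap.weightedSumSquares_apply, hw, diagQ]
    refine Fintype.sum_equiv (finCongr hd.symm) _ _ fun i => ?_
    simp [f, smul_eq_mul, pow_two]
  obtain ⟨P, hP⟩ : ∃ P : Matrix (Fin 6) (Fin 6) (ZMod 3), ∀ k i, P k i = f (Pi.single i 1) k :=
    ⟨Matrix.of fun k i => f (Pi.single i 1) k, fun _ _ => rfl⟩
  have hpolar : ∀ u v, QuadraticMap.polar (⇑Q) u v = ∑ i, 2 * w i * (f u i * f v i) := fun u v => by
    simp only [QuadraticMap.polar, ← hf, map_add, diagQ, Pi.add_apply, ← Finset.sum_sub_distrib]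
    exact Finset.sum_congr rfl fun i _ => by ring
  have hgram : (Matrix.of fun i j : Fin 6 => QuadraticMap.polar (⇑Q) (Pi.single i 1) (Pi.single j 1)) =
      Pᵀ * Matrix.diagonal (fun i => 2 * w i) * P := by
    ext i j
    rw [Matrix.of_apply, hpolar, Matrix.mul_apply]
    refine Finset.sum_congr rfl fun k _ => ?_
    rw [Matrix.mul_diagonal, Matrix.transpose_apply, hP, hP]
    ring
  rw [Cfsg.polarGramDet, hgram, det_mul, det_mul, det_transpose, det_diagonal, Finset.prod_mul_distrib,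
    Finset.prod_const, Finset.card_univ, Fintype.card_fin] at hdet
  have hprod := z3_disc _ _ hdet
  exact ⟨w, f, fun i hi => zero_ne_one ((Finset.prod_eq_zero (Finset.mem_univ i) hi).symm.trans hprod), hf, hprod⟩

theorem card_isometry (Q : QuadraticForm (ZMod 3) (Fin 6 → ZMod 3))
    (hQ : (QuadraticMap.polarBilin Q).Nondegenerate) (hdet : Cfsg.polarGramDet (⇑Q) = 1) :
    Nat.card ↥(isometryGroup (ZMod 3) (⇑Q)) = 26127360 := by
  haveI : Fact (Nat.Prime 3) := ⟨Nat.prime_three⟩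
  obtain ⟨w, f, hw, hf, hprod⟩ := exists_diagonal Q hQ hdet
  have C := space_of_quadraticForm Q hQ
  obtain ⟨d, hd⟩ : ∃ d : (Fin 2 ⊕ Fin 2) ⊕ Fin 2 → ZMod 3,
      d = Sum.elim (Sum.elim (fun _ => 1) (fun _ => 2)) (fun _ => 1) := ⟨_, rfl⟩
  have hd0 : ∀ i, d i ≠ 0 := by subst hd; exact z3_d
  have h1 : FormMap (⇑Q) (diagQ w) := ⟨f.toLinearMap, hf⟩
  have h2 : FormMap (diagQ w) (diagQ d) := diag_map two_ne w d hw hd0 (by simp) (by
    rw [hprod, hd]; exact z3_dprod)
  have h3 : FormMap (diagQ d) (Cfsg.quadFormMinus 2 (ZMod 3) 0 1) := by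
    refine ⟨LinearMap.pi (Sum.elim (Sum.elim
      (fun i => LinearMap.proj (.inl (.inl i)) + LinearMap.proj (.inl (.inr i)))
      (fun i => LinearMap.proj (.inl (.inl i)) - LinearMap.proj (.inl (.inr i))))
      (fun i => LinearMap.proj (.inr i))), fun v => ?_⟩
    subst hd
    simp [diagQ, Cfsg.quadFormMinus, Fintype.sum_sum_type, Fin.sum_univ_two]
    linear_combination (-(v (.inl (.inr 0)) ^ 2) - v (.inl (.inr 1)) ^ 2) * z3_three_zero
  obtain ⟨e⟩ := ((h1.trans h2).trans h3).nonempty_mulEquiv C (by simp)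
  rw [Nat.card_congr e.toEquiv, Cfsg.Lib.Linear.NondegFix.card_iso_minus 2 (a := (0 : ZMod 3)) (b := 1) z3_aniso]
  rw [ZMod.card]
  simp [Cfsg.Lib.Linear.NondegFix.sprod, Finset.prod_range_succ]

/-- Central elements of the reflection group are `±1`. -/
theorem center_pm (Q : QuadraticForm (ZMod 3) (Fin 6 → ZMod 3))
    (hQ : (QuadraticMap.polarBilin Q).Nondegenerate) (hdet : Cfsg.polarGramDet (⇑Q) = 1) {c : ZMod 3} (hc : c ≠ 0)
    {z : ↥(reflectionSubgroup (⇑Q) c)} (hz : z ∈ Subgroup.center ↥(reflectionSubgroup (⇑Q) c)) :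
    ∃ ε : ZMod 3, ε ≠ 0 ∧ ∀ x, ((z : ↥(isometryGroup (ZMod 3) ⇑Q)) : GL (Fin 6) (ZMod 3)).val *ᵥ x = ε • x := by
  classical
  haveI : Fact (Nat.Prime 3) := ⟨Nat.prime_three⟩
  have C := space_of_quadraticForm Q hQ
  obtain ⟨g, hg⟩ : ∃ g, g = ((z : ↥(isometryGroup (ZMod 3) ⇑Q)) : GL (Fin 6) (ZMod 3)) := ⟨_, rfl⟩
  rw [← hg]
  have hgi : g ∈ isometryGroup (ZMod 3) (⇑Q) := hg ▸ (z : ↥(isometryGroup (ZMod 3) ⇑Q)).2
  have hsign : ∀ v, Q v = c → ∃ ε : ZMod 3, ε ≠ 0 ∧ g.val *ᵥ v = ε • v := by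
    intro v hv
    have hv0 : Q v ≠ 0 := hv ▸ hc
    have hcomm := congrArg
      (fun t : ↥(reflectionSubgroup (⇑Q) c) => ((t : ↥(isometryGroup (ZMod 3) ⇑Q)) : GL (Fin 6) (ZMod 3)))
      (Subgroup.mem_center_iff.1 hz ⟨rI C v hv0, rI_mem_reflectionSubgroup C hc hv⟩)
    simp only [Subgroup.coe_mul, rI_val, ← hg] at hcomm
    have e : rGL (⇑Q) (g.val *ᵥ v) = rGL (⇑Q) v := by
      rw [← rGL_conj C hv0 hgi, ← hcomm, mul_inv_cancel_right]
    obtain ⟨u, hu⟩ : ∃ u, u = g.val *ᵥ v := ⟨_, rfl⟩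
    rw [← hu] at e ⊢
    have hqu : Q u = c := by rw [hu, mem_iso.1 hgi, hv]
    have e2 := congrArg (fun t : GL (Fin 6) (ZMod 3) => t.val *ᵥ u) e
    simp only [rGL_act C (hqu ▸ hc : Q u ≠ 0), rGL_act C hv0, C.self, hqu, hv] at e2
    obtain ⟨k, hk⟩ : ∃ k : ZMod 3, k • v = u := by
      refine ⟨2⁻¹ * (c⁻¹ * QuadraticMap.polarBilin Q v u), ?_⟩
      have h3 := sub_right_inj.1 e2
      rw [show c⁻¹ * (2 * c) = 2 by field_simp] at h3
      rw [mul_smul, ← h3, smul_smul, inv_mul_cancel₀ two_ne, one_smul]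
    refine ⟨k, fun h0 => hc ?_, hk.symm⟩
    rw [← hqu, ← hk, h0, zero_smul, C.zero]
  obtain ⟨ε, hε, hall⟩ : ∃ ε : ZMod 3, ε ≠ 0 ∧ ∀ v, Q v = c → g.val *ᵥ v = ε • v := by
    obtain ⟨w, -, hw⟩ := exists_norm_perp_family C (k := 0) Fin.elim0 (by simp) (fun i => i.elim0)
      (fun i => i.elim0) hc
    obtain ⟨ε, hε, hεw⟩ := hsign w hw
    refine ⟨ε, hε, fun v hv => ?_⟩
    have hlinked : ∀ a b, Q a = c → Q b = c → QuadraticMap.polarBilin Q a b ≠ 0 →
        g.val *ᵥ a = ε • a → g.val *ᵥ b = ε • b := by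
      intro a b ha hb hab hea
      obtain ⟨δ, -, heb⟩ := hsign b hb
      have h := C.B_act hgi a b
      rw [hea, heb, map_smul, map_smul, LinearMap.smul_apply, smul_eq_mul, smul_eq_mul] at h
      have : δ * ε = 1 := mul_right_cancel₀ hab (by linear_combination h)
      rw [heb, z3_inv ε δ this]
    by_cases hwv : QuadraticMap.polarBilin Q w v = 0
    · obtain ⟨x, hx, hwx, hvx⟩ := exists_link C (by simp) (v := w) (w := v) (hw ▸ hc) (hw.trans hv.symm) hwv
      rw [hw] at hx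
      exact hlinked x v hx hv (by rwa [C.symm]) (hlinked w x hw hx hwx hεw)
    · exact hlinked w v hw hv hwv hεw
  refine ⟨ε, hε, ?_⟩
  obtain ⟨w, f, hw, hf, -⟩ := exists_diagonal Q hQ hdet
  obtain ⟨b, hb⟩ : ∃ b : Fin 6 → (Fin 6 → ZMod 3), ∀ i, b i = f.symm (Pi.single i 1) := ⟨_, fun _ => rfl⟩
  have hcomb : ∀ a : Fin 6 → ZMod 3, ∑ i, w i * a i ^ 2 = c →
      g.val *ᵥ f.symm a = ε • f.symm a := fun a ha => hall _ (by rw [← hf, f.apply_symm_apply]; exact ha)
  have hbasis : ∀ i, g.val *ᵥ b i = ε • b i := by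
    intro i
    rcases z3_cases (w i) c (hw i) hc with h | h
    · rw [hb]
      exact hcomb _ (by simp [Pi.single_apply, h])
    have hother : ∀ j, j ≠ i → g.val *ᵥ b j = ε • b j ∨ g.val *ᵥ b i = ε • b i := by
      intro j hj
      rcases z3_cases (w j) c (hw j) hc with h' | h'
      · exact Or.inl (by rw [hb]; exact hcomb _ (by simp [Pi.single_apply, h']))
      · refine Or.inr ?_
        have hwij : w i + w j = c := by
          exact z3_pair _ _ _ h h'
        have hsum : ∀ t : ZMod 3, t ^ 2 = 1 →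
            ∑ k, w k * (((Pi.single i 1 : Fin 6 → ZMod 3) + Pi.single j t : Fin 6 → ZMod 3) k) ^ 2 = c := fun t ht => by
          rw [Fintype.sum_eq_add i j hj.symm (fun k hk => by simp [hk.1, hk.2])]
          simp [hj, hj.symm, ht, hwij]
        have h1 := hcomb _ (hsum 1 (one_pow 2))
        have h2 := hcomb _ (hsum (-1) (by norm_num))
        rw [Pi.single_neg, ← sub_eq_add_neg, map_sub, ← hb, ← hb, Matrix.mulVec_sub, smul_sub] at h2
        rw [map_add, ← hb, ← hb, Matrix.mulVec_add, smul_add] at h1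
        have h3 := congrArg₂ (· + ·) h1 h2
        have h4 : (2 : ZMod 3) • (g.val *ᵥ b i) = (2 : ZMod 3) • (ε • b i) := by
          linear_combination (norm := module) h3
        have := congrArg ((2 : ZMod 3)⁻¹ • ·) h4
        simpa only [smul_smul, inv_mul_cancel₀ two_ne, one_smul, ← mul_assoc, one_mul] using this
    by_contra hno
    have hoth : ∀ j, j ≠ i → w j = c := fun j hj => by
      rcases z3_cases (w j) c (hw j) hc with h' | h'
      · exact h'
      · exfalso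
        rcases hother j hj with hj' | hj'
        swap; exact hno hj'
        have hwij : w i + w j = c := by
          exact z3_pair _ _ _ h h'
        have h1 := hcomb ((Pi.single i 1 : Fin 6 → ZMod 3) + Pi.single j 1) (by
          rw [Fintype.sum_eq_add i j hj.symm (fun k hk => by simp [hk.1, hk.2])]
          simp [hj, hj.symm, hwij])
        rw [map_add, ← hb, ← hb, Matrix.mulVec_add, smul_add, hj'] at h1
        exact hno (add_right_cancel h1)
    obtain ⟨j, k, hji, hki, hjk⟩ := fin6_two i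
    have hj := hcomb (Pi.single j 1) (by simp [Pi.single_apply, hoth j hji])
    have hk := hcomb (Pi.single k 1) (by simp [Pi.single_apply, hoth k hki])
    have h3 := hcomb ((Pi.single i 1 : Fin 6 → ZMod 3) + (Pi.single j 1 + Pi.single k 1)) (by
      rw [← Finset.sum_subset (Finset.subset_univ {i, j, k}) (fun t _ ht => by
        simp only [Finset.mem_insert, Finset.mem_singleton, not_or] at ht
        simp [ht.1, ht.2.1, ht.2.2]),
        Finset.sum_insert (by simp [hji.symm, hki.symm]), Finset.sum_pair hjk]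
      simp [hji, hki, hji.symm, hki.symm, hjk, hjk.symm, hoth j hji, hoth k hki]
      exact z3_three _ _ h)
    rw [map_add, map_add, ← hb, Matrix.mulVec_add, Matrix.mulVec_add, smul_add, smul_add, hj, hk] at h3
    exact hno (add_right_cancel h3)
  intro x
  have hx : x = ∑ i, f x i • b i := by
    simp only [hb, ← map_smul, ← map_sum]
    exact f.eq_symm_apply.2 (pi_eq_sum_univ' (f x))
  rw [hx, Matrix.mulVec_sum, Finset.smul_sum]
  exact Finset.sum_congr rfl fun i _ => by rw [Matrix.mulVec_smul, hbasis, smul_comm]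

/-- The order of the projective reflection group. -/
theorem order_dvd {X : Type*} [Group X] [Finite X] {c : ZMod 3} (hc : c ≠ 0)
    (h : Cfsg.IsProjReflectionGroupModThree X 6 1 c) : 2 ^ 8 * 3 ^ 6 * 5 * 7 ∣ Nat.card X := by
  classical
  haveI : Fact (Nat.Prime 3) := ⟨Nat.prime_three⟩
  obtain ⟨Q, hQ, hdet, ⟨e⟩⟩ := h
  have C := space_of_quadraticForm Q hQ
  have hR := (reflectionSubgroup (⇑Q) c).card_mul_index
  rw [reflectionSubgroup_index C (by simp) hc, card_isometry Q hQ hdet,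
    Subgroup.card_eq_card_quotient_mul_card_subgroup (Subgroup.center ↥(reflectionSubgroup (⇑Q) c)),
    ← Nat.card_congr e.toEquiv] at hR
  have hsmall : Nat.card ↥(Subgroup.center ↥(reflectionSubgroup (⇑Q) c)) ≤ 2 := by
    choose ε hε hact using fun z : ↥(Subgroup.center ↥(reflectionSubgroup (⇑Q) c)) => center_pm Q hQ hdet hc z.2
    refine le_trans (Nat.card_le_card_of_injective (fun z => Units.mk0 (ε z) (hε z)) fun z z' hzz => ?_)
      (le_of_eq (by rw [Nat.card_units, Nat.card_zmod]))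
    have hee : ε z = ε z' := congrArg Units.val hzz
    exact Subtype.ext (Subtype.ext (Subtype.ext (gl_ext fun x => by rw [hact z, hact z', hee])))
  have hpos : 0 < Nat.card ↥(Subgroup.center ↥(reflectionSubgroup (⇑Q) c)) := Nat.card_pos
  generalize Nat.card ↥(Subgroup.center ↥(reflectionSubgroup (⇑Q) c)) = k at hR hsmall hpos
  interval_cases k
  · exact ⟨2, by omega⟩
  · exact ⟨1, by omega⟩

end Cfsg.Lib.Fischer.Relations.ReflSix
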