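import Cfsg.Agent.Lib.Fischer.Relations.Centralizer.Sizes
import Cfsg.Agent.Lib.Fischer.Relations.Centralizer.ReflOrder

/-!
# The order of a group of type M(22)

The centralizer of two non-commuting members contains a projective reflection group, and a totally isotropic
plane forces at least 1792 members outside a neighbourhood; together these leave exactly 2816 of them.
-/

set_option autoImplicit false
set_option linter.unusedSectionVars false

namespace Cfsg.Lib.Fischer.Relations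

open Module Cfsg Cfsg.Lib.Fischer Cfsg.Lib.Linear.Herm Cfsg.Agent.S1631 Cfsg.Lib.Fischer.RadicalAbelian
open Cfsg.Lib.Linear

variable {G : Type*} [Group G] [Finite G] {D : Set G}
  {F : Type} [Field F] [Fintype F] {hF : Fintype.card F = 2 ^ 2} {d : G}

/-- Orbit and stabilizer of a subgroup acting by conjugation. -/
theorem card_conj_orbit {K : Subgroup G} {X : Set G} {x : G} (hx : x ∈ X)
    (hst : ∀ k ∈ K, ∀ y ∈ X, k * y * k⁻¹ ∈ X) (htr : ∀ y ∈ X, ∃ k ∈ K, k * x * k⁻¹ = y) :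
    Nat.card K = Nat.card X * Nat.card ↥(K ⊓ Subgroup.centralizer ({x} : Set G)) := by
  letI : MulAction ↥K ↥X :=
    { smul := fun k y => ⟨(k : G) * y * (k : G)⁻¹, hst k k.2 y y.2⟩
      one_smul := fun y => Subtype.ext (show (1 : G) * y * (1 : G)⁻¹ = y by simp)
      mul_smul := fun g h y => Subtype.ext (show (g : G) * h * y * ((g : G) * h)⁻¹ = g * (h * y * (h : G)⁻¹) * (g : G)⁻¹
        by group) }
  obtain ⟨x', hx'⟩ : ∃ x' : ↥X, (x' : G) = x := ⟨⟨x, hx⟩, rfl⟩
  haveI : MulAction.IsPretransitive ↥K ↥X := ⟨fun a b => by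
    obtain ⟨k, hk, ek⟩ := htr a a.2
    obtain ⟨l, hl, el⟩ := htr b b.2
    refine ⟨⟨l * k⁻¹, K.mul_mem hl (K.inv_mem hk)⟩, Subtype.ext ?_⟩
    show l * k⁻¹ * (a : G) * (l * k⁻¹)⁻¹ = b
    rw [← ek, ← el]
    group⟩
  have e : Nat.card ↥(MulAction.stabilizer ↥K x') = Nat.card ↥(K ⊓ Subgroup.centralizer ({x} : Set G)) := by
    have hs : ∀ k : ↥K, k ∈ MulAction.stabilizer ↥K x' ↔ (k : G) ∈ Subgroup.centralizer ({x} : Set G) := fun k => by
      rw [MulAction.mem_stabilizer_iff, Subtype.ext_iff, Subgroup.mem_centralizer_singleton_iff]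
      show (k : G) * x' * (k : G)⁻¹ = x' ↔ _
      rw [hx', mul_inv_eq_iff_eq_mul]
    exact Nat.card_congr ((Equiv.subtypeEquivRight hs).trans
      (Equiv.subtypeSubtypeEquivSubtypeInter (· ∈ K) fun k => k ∈ Subgroup.centralizer ({x} : Set G)))
  rw [← e, ← MulAction.index_stabilizer_of_transitive ↥K x', mul_comm, Subgroup.card_mul_index]

theorem card_psu_six (hF : Fintype.card F = 2 ^ 2) : Nat.card (Cfsg.PSU 6 F 2) = 9196830720 := by
  have h1 := card_SU hF (n := 6) (by norm_num)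
  rw [card_GU hF 6, Subgroup.card_eq_card_quotient_mul_card_subgroup (Subgroup.center ↥(Cfsg.SU 6 F 2)),
    card_center_SU hF (by norm_num)] at h1
  norm_num [Finset.prod_range_succ, Nat.even_iff] at h1
  show Nat.card (↥(Cfsg.SU 6 F 2) ⧸ Subgroup.center ↥(Cfsg.SU 6 F 2)) = _
  omega

namespace Coord

variable (C : Coord D d hF)
include C

/-- The order of the centralizer. -/
theorem card_centralizer (e : ↥(Subgroup.closure (perp D d)) ⧸ Subgroup.center ↥(Subgroup.closure (perp D d)) ≃*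
    Cfsg.PSU 6 F 2) : Nat.card ↥(Subgroup.closure (perp D d)) = 18393661440 := by
  haveI : Fact (Nat.Prime 2) := ⟨Nat.prime_two⟩
  have hdK := (perp_perfect C.fis C.nbr C.mem C.prim C.cen C.sep).1
  have hz : Nat.card ↥(Subgroup.center ↥(Subgroup.closure (perp D d))) = 2 := by
    rw [← C.fis.set.1 d C.mem, ← Nat.card_zpowers]
    have hcen : Subgroup.center ↥(Subgroup.closure (perp D d)) =
        (Subgroup.zpowers d).subgroupOf (Subgroup.closure (perp D d)) := by
      ext z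
      rw [Subgroup.mem_center_iff, Subgroup.mem_subgroupOf]
      constructor
      · intro h
        rcases eq_or_eq_of_centralizes C.fis C.nbr C.mem C.prim C.cen (z := (z : G))
          (congrArg Subtype.val (h ⟨d, hdK⟩)).symm
          (fun y hy => (congrArg Subtype.val (h ⟨y, Subgroup.subset_closure hy⟩)).symm) with h' | h'
        · rw [h']; exact one_mem _
        · rw [h']; exact Subgroup.mem_zpowers d
      · rintro ⟨k, hk⟩ y
        refine Subtype.ext ?_
        show (y : G) * (z : G) = z * y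
        rw [← hk]
        exact ((C.commute_of_mem y.2).zpow_right k).eq
    rw [hcen]
    exact Nat.card_congr (Subgroup.subgroupOfEquivOfLe (Subgroup.zpowers_le.2 hdK)).toEquiv
  rw [Subgroup.card_eq_card_quotient_mul_card_subgroup (Subgroup.center ↥(Subgroup.closure (perp D d))), hz,
    Nat.card_congr e.toEquiv, card_psu_six hF]

/-- At least 1792 members lie outside the neighbourhood. -/
theorem far_lower : 1792 ≤ Nat.card {x | x ∈ D ∧ ¬ Commute x d} := by
  classical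
  obtain ⟨P, hPdef⟩ : ∃ P : Set G, P = {s | s ∈ perp D d ∧ ∃ a b c, C.U.c s = pv a b c} := ⟨_, rfl⟩
  have hP : ∀ s, s ∈ P ↔ s ∈ perp D d ∧ ∃ a b c, C.U.c s = pv a b c := fun s => by rw [hPdef]; rfl
  have hP21 : Nat.card P = 21 := by
    obtain ⟨W, hW⟩ : ∃ W : Set (Fin 6 → F), W = {v | v ≠ 0 ∧ ∃ a b c, v = pv a b c} := ⟨_, rfl⟩
    have hWc : Nat.card W + 1 = 64 := by
      have hall : Set.range (fun p : F × F × F => pv p.1 p.2.1 p.2.2) = insert 0 W := by
        ext v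
        rw [hW, Set.mem_range, Set.mem_insert_iff, Set.mem_setOf_eq]
        constructor
        · rintro ⟨⟨a, b, c⟩, rfl⟩
          exact (em _).imp id fun h => ⟨h, a, b, c, rfl⟩
        · rintro (rfl | ⟨-, a, b, c, rfl⟩)
          exacts [⟨(0, 0, 0), by ext i; fin_cases i <;> simp [pv]⟩, ⟨(a, b, c), rfl⟩]
      have hinj : Function.Injective (fun p : F × F × F => pv p.1 p.2.1 p.2.2) := fun p q h => by
        obtain ⟨h1, h2, h3⟩ := pv_inj h
        exact Prod.ext h1 (Prod.ext h2 h3)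
      have h := congrArg Set.ncard hall
      rw [Set.ncard_range_of_injective hinj, Set.ncard_insert_of_notMem (by simp [hW]), ← Nat.card_coe_set_eq,
        Nat.card_prod, Nat.card_prod, Nat.card_eq_fintype_card, hF] at h
      have hFc : Nat.card F = 4 := by rw [Nat.card_eq_fintype_card, hF]; norm_num
      simp only [Nat.card_eq_fintype_card, Fintype.card_prod, hF] at h hFc ⊢
      omega
    have h := C.card_points P (fun s hs => ((hP s).1 hs).1) W fun v => by
      rw [hW]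
      refine and_congr_right fun hv => ⟨?_, fun ⟨hiso, h⟩ => ?_⟩
      · rintro ⟨a, b, c, rfl⟩
        refine ⟨pv_orth hF _ _ _ _ _ _, fun t ht ⟨j, hj⟩ => (hP t).2 ⟨ht, ?_⟩⟩
        exact ⟨j * a, j * b, j * c, by rw [hj, smul_pv]⟩
      · obtain ⟨t, ht, j, hj, hct⟩ := C.exists_point hv hiso
        obtain ⟨-, a, b, c, e⟩ := (hP t).1 (h t ht ⟨j, hct⟩)
        exact ⟨j⁻¹ * a, j⁻¹ * b, j⁻¹ * c, by rw [← smul_pv, ← e, hct, smul_smul, inv_mul_cancel₀ hj, one_smul]⟩
    omega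
  obtain ⟨Far, hFar⟩ : ∃ Far : Set G, Far = {x | x ∈ D ∧ ¬ Commute x d} := ⟨_, rfl⟩
  rw [← hFar]
  obtain ⟨Pf, hPf⟩ : ∃ Pf : Finset G, Pf = P.toFinite.toFinset := ⟨_, rfl⟩
  obtain ⟨Ff, hFf⟩ : ∃ Ff : Finset G, Ff = Far.toFinite.toFinset := ⟨_, rfl⟩
  have h1 : ∀ s ∈ Pf, 512 ≤ (Finset.bipartiteAbove (fun s x => Commute s x) Ff s).card := fun s hs => by
    rw [hPf, Set.Finite.mem_toFinset] at hs
    rw [← C.card_far_perp ((hP s).1 hs).1, ← Nat.card_eq_finsetCard]
    refine le_of_eq (Nat.card_congr (Equiv.subtypeEquivRight fun x => ?_))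
    simp only [hFf, hFar, Finset.bipartiteAbove, Finset.mem_filter, Set.Finite.mem_toFinset, Set.mem_setOf_eq, and_assoc]
  have h2 : ∀ x ∈ Ff, (Finset.bipartiteBelow (fun s x => Commute s x) Pf x).card ≤ 6 := fun x hx => by
    rw [hFf, Set.Finite.mem_toFinset, hFar] at hx
    refine le_trans (le_of_eq ?_) (C.plane_six hx.1 hx.2 P hP hP21)
    rw [← Nat.card_eq_finsetCard]
    refine Nat.card_congr (Equiv.subtypeEquivRight fun s => ?_)
    simp [hPf, Finset.bipartiteBelow]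
  have h := Finset.card_mul_le_card_mul (fun s x => Commute s x) h1 h2
  rw [hPf, hFf, ← Set.ncard_eq_toFinset_card _, ← Set.ncard_eq_toFinset_card _, ← Nat.card_coe_set_eq,
    ← Nat.card_coe_set_eq, hP21] at h
  omega

/-- A bound on the commuting width, attained on a plane. -/
theorem width : Cfsg.commutingWidth D = 22 := by
  classical
  have hK := fourField hF
  have hub : ∀ E : Set G, E ⊆ D → (∀ a ∈ E, ∀ b ∈ E, Commute a b) → E.ncard ≤ 22 := by
    intro E hE hc
    rcases E.eq_empty_or_nonempty with h | ⟨a, ha⟩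
    · simp [h]
    obtain ⟨g, hg⟩ := C.trans.trans a (hE ha) d C.mem
    have hb := C.commuting_le (E := (fun x => g * x * g⁻¹) '' (E \ {a}))
      (by
        rintro _ ⟨x, ⟨hx, hxa⟩, rfl⟩
        rw [← hg]
        exact conj_perp C.fis g a ⟨hE hx, hxa, hc a ha x hx⟩)
      (by
        rintro _ ⟨x, ⟨hx, -⟩, rfl⟩ _ ⟨y, ⟨hy, -⟩, rfl⟩
        exact (Commute.conj_iff g).2 (hc x hx y hy))
    rw [Nat.card_coe_set_eq, Set.ncard_image_of_injective _ (fun x y h => (MulAut.conj g).injective h : Function.Injective fun x => g * x * g⁻¹),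
      Set.ncard_diff_singleton_of_mem ha] at hb
    omega
  obtain ⟨M, hM⟩ := C.exists_pm
  obtain ⟨E, hE⟩ : ∃ E : Set G, E = insert d ((fun p : F × F × F => M p.1 p.2.1 p.2.2) ''
      {p | p.1 ≠ 0 ∨ p.2.1 ≠ 0 ∨ p.2.2 ≠ 0}) := ⟨_, rfl⟩
  have hEc : ∀ a ∈ E, ∀ b ∈ E, Commute a b := by
    rw [hE]
    rintro a (rfl | ⟨p, hp, rfl⟩) b (rfl | ⟨q, hq, rfl⟩)
    exacts [Commute.refl _, (hM _ _ _ hq).1.2.2, (hM _ _ _ hp).1.2.2.symm, C.pm_commute hM hp hq]
  have hED : E ⊆ D := by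
    rw [hE]
    rintro a (rfl | ⟨p, hp, rfl⟩)
    exacts [C.mem, (hM _ _ _ hp).1.1]
  have h22 : 22 ≤ E.ncard := by
    -- normalised triples give distinct members
    haveI := Fintype.ofFinite G
    obtain ⟨N, hN⟩ : ∃ N : F × F ⊕ (F ⊕ Unit) → G, N = Sum.elim (fun p => M 1 p.1 p.2)
        (Sum.elim (fun c => M 0 1 c) (fun _ => M 0 0 1)) := ⟨_, rfl⟩
    have h1 : ∀ b c : F, (1 : F) ≠ 0 ∨ b ≠ 0 ∨ c ≠ 0 := fun _ _ => Or.inl one_ne_zero
    have h2 : ∀ c : F, (0 : F) ≠ 0 ∨ (1 : F) ≠ 0 ∨ c ≠ 0 := fun _ => Or.inr (Or.inl one_ne_zero)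
    have h3 : (0 : F) ≠ 0 ∨ (0 : F) ≠ 0 ∨ (1 : F) ≠ 0 := Or.inr (Or.inr one_ne_zero)
    have hinj : Function.Injective N := by
      rw [hN]
      rintro (⟨b, c⟩ | c | u) (⟨b', c'⟩ | c' | u') h
      · obtain ⟨k, -, e1, e2, e3⟩ := C.pm_eq hM (h1 b c) (h1 b' c') h
        rw [mul_one] at e1
        simp [e2, e3, ← e1]
      · obtain ⟨k, -, e1, -, -⟩ := C.pm_eq hM (h1 b c) (h2 c') h
        simp at e1
      · obtain ⟨k, -, e1, -, -⟩ := C.pm_eq hM (h1 b c) h3 h
        simp at e1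
      · obtain ⟨k, hk, e1, -, -⟩ := C.pm_eq hM (h2 c) (h1 b' c') h
        simp [eq_comm, hk] at e1
      · obtain ⟨k, -, -, e2, e3⟩ := C.pm_eq hM (h2 c) (h2 c') h
        rw [mul_one] at e2
        simp [e3, ← e2]
      · obtain ⟨k, -, -, e2, -⟩ := C.pm_eq hM (h2 c) h3 h
        simp at e2
      · obtain ⟨k, hk, e1, -, -⟩ := C.pm_eq hM h3 (h1 b' c') h
        simp [eq_comm, hk] at e1
      · obtain ⟨k, hk, -, e2, -⟩ := C.pm_eq hM h3 (h2 c') h
        simp [eq_comm, hk] at e2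
      · rfl
    have hsub : insert d (Set.range N) ⊆ E := by
      rw [hE, hN]
      refine Set.insert_subset_insert ?_
      rintro _ ⟨x, rfl⟩
      rcases x with ⟨b, c⟩ | c | u
      exacts [⟨(1, b, c), h1 b c, rfl⟩, ⟨(0, 1, c), h2 c, rfl⟩, ⟨(0, 0, 1), h3, rfl⟩]
    have hd : d ∉ Set.range N := by
      rw [hN]
      rintro ⟨x, hx⟩
      rcases x with ⟨b, c⟩ | c | u
      exacts [(hM _ _ _ (h1 b c)).1.2.1 hx, (hM _ _ _ (h2 c)).1.2.1 hx, (hM _ _ _ h3).1.2.1 hx]
    refine le_trans (le_of_eq ?_) (Set.ncard_le_ncard hsub)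
    rw [Set.ncard_insert_of_notMem hd, Set.ncard_range_of_injective hinj, Nat.card_eq_fintype_card,
      Fintype.card_sum, Fintype.card_sum, Fintype.card_prod, Fintype.card_unit, hF]
    norm_num
  refine le_antisymm (csSup_le ⟨E.ncard, E, hED, E.toFinite, hEc, rfl⟩ ?_) (le_trans h22 (le_csSup ⟨22, ?_⟩
    ⟨E, hED, E.toFinite, hEc, rfl⟩))
  · rintro n ⟨A, hA, -, hc, rfl⟩
    exact hub A hA hc
  · rintro n ⟨A, hA, -, hc, rfl⟩
    exact hub A hA hc

end Coord

/-- Class size, order and commuting width in type M(22). -/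
theorem m22_order (hT : Trans D) (hprim : Cfsg.IsPrimitiveUnderConj D) (h22 : Cfsg.IsOfTypeM22 G D) :
    D.ncard = 3510 ∧ Nat.card G = 2 ^ 17 * 3 ^ 9 * 5 ^ 2 * 7 * 11 * 13 ∧ Cfsg.commutingWidth D = 22 := by
  obtain ⟨hZ, d, hd, c, hc, hdc, ⟨F, _, _, hF, ⟨e⟩⟩, c₃, hc₃, hL⟩ := h22
  have hF' : Fintype.card F = 2 ^ 2 := hF
  obtain ⟨b, hb⟩ := perp_nonempty_of_psu (D := D) hF' e
  have hw : ∃ a ∈ D, ∃ b ∈ D, a ≠ b ∧ Commute a b := ⟨d, hd, b, hb.1, Ne.symm hb.2.1, hb.2.2⟩
  have hsep := sep_of_core hT hprim.2.1 (core_le_center_of_primitive hT hprim hw).1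
  obtain ⟨U⟩ := exists_udata hT hsep hd hF' e
  obtain ⟨C⟩ := exists_coord (hF := hF') (isFischer_of_primitive hT hprim hw hZ) hprim hZ hsep
    (fun a ha => by obtain ⟨g, rfl⟩ := hT.trans d hd a ha; exact ⟨U.conj hT g⟩) hd e
  obtain ⟨Far, hFar⟩ : ∃ Far : Set G, Far = {x | x ∈ D ∧ ¬ Commute x d} := ⟨_, rfl⟩
  have hlow : 1792 ≤ Nat.card Far := by rw [hFar]; exact C.far_lower
  have hK := C.card_centralizer e
  rw [C.centralizer_eq] at hK
  -- orbit of a non-commuting member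
  have horbit : Nat.card ↥(Subgroup.centralizer ({d} : Set G)) = Nat.card Far *
      Nat.card ↥(Subgroup.centralizer ({d} : Set G) ⊓ Subgroup.centralizer ({c} : Set G)) := by
    refine card_conj_orbit (by rw [hFar]; exact ⟨hc, fun h => hdc h.symm⟩) (fun k hk y hy => ?_) fun y hy => ?_
    · rw [hFar] at hy ⊢
      refine ⟨hT.conj k y hy.1, fun h => hy.2 ?_⟩
      rw [← Commute.conj_iff k]
      rwa [show k * d * k⁻¹ = d by rw [Subgroup.mem_centralizer_singleton_iff.1 hk, mul_inv_cancel_right]]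
    · rw [hFar] at hy
      obtain ⟨g, hg, he⟩ := orb_all C.fis hd hc hy.1 hdc (fun h => hy.2 h.symm)
      exact ⟨g, Subgroup.mem_centralizer_singleton_iff.2 (commute_of_mem_closure C.fis hd hg).eq, he⟩
  have hdvd : 2 ^ 8 * 3 ^ 6 * 5 * 7 ∣
      Nat.card ↥(Subgroup.centralizer ({d} : Set G) ⊓ Subgroup.centralizer ({c} : Set G)) := by
    refine (ReflSix.order_dvd hc₃ hL).trans ((Subgroup.card_quotient_dvd_card _).trans
      (Subgroup.card_dvd_of_le ((Subgroup.closure_le _).2 ?_)))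
    rintro x ⟨⟨-, -, hdx⟩, -, -, hcx⟩
    exact ⟨Subgroup.mem_centralizer_singleton_iff.2 hdx.eq.symm,
      Subgroup.mem_centralizer_singleton_iff.2 hcx.eq.symm⟩
  have hN : Nat.card Far = 2816 := by
    obtain ⟨k, hk⟩ := hdvd
    rw [hK, hk] at horbit
    have hprod : Nat.card Far * k = 2816 := by
      have : 2 ^ 8 * 3 ^ 6 * 5 * 7 * (Nat.card Far * k) = 2 ^ 8 * 3 ^ 6 * 5 * 7 * 2816 := by
        rw [show 2 ^ 8 * 3 ^ 6 * 5 * 7 * 2816 = 18393661440 by norm_num, horbit]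
        ring
      exact Nat.eq_of_mul_eq_mul_left (by norm_num) this
    rcases k with _ | _ | k
    · simp at hprod
    · simpa using hprod
    · exfalso
      have : Nat.card Far * 2 ≤ Nat.card Far * (k + 1 + 1) := Nat.mul_le_mul_left _ (by omega)
      omega
  have hD : D.ncard = 3510 := by
    have hset : D = insert d (perp D d ∪ Far) := by
      ext x
      simp only [Set.mem_insert_iff, Set.mem_union, hFar, Set.mem_setOf_eq, mem_perp]
      constructor
      · intro hx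
        by_cases h : x = d
        · exact Or.inl h
        by_cases h' : Commute x d
        exacts [Or.inr (Or.inl ⟨hx, h, h'.symm⟩), Or.inr (Or.inr ⟨hx, h'⟩)]
      · rintro (rfl | h | h)
        exacts [hd, h.1, h.1]
    conv_lhs => rw [hset]
    rw [Set.ncard_insert_of_notMem, Set.ncard_union_eq, ← Nat.card_coe_set_eq, C.card_perp, ← Nat.card_coe_set_eq,
      hN]
    · exact Set.disjoint_left.2 fun x h h' => by rw [hFar] at h'; exact h'.2 h.2.2.symm
    · rintro (h | h)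
      · exact h.2.1 rfl
      · rw [hFar] at h; exact h.2 (Commute.refl d)
  refine ⟨hD, ?_, C.width⟩
  have h := card_conj_orbit (K := (⊤ : Subgroup G)) hd (fun k _ y hy => hT.conj k y hy)
    fun y hy => by obtain ⟨g, hg⟩ := hT.trans d hd y hy; exact ⟨g, Subgroup.mem_top g, hg⟩
  rw [top_inf_eq, hK, Subgroup.card_top, Nat.card_coe_set_eq, hD] at h
  rw [h]
  norm_num

end Cfsg.Lib.Fischer.Relations
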