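import Cfsg.Agent.S0111
import Cfsg.Agent.Lib.Fischer.Relations.Centralizer.Order
import Cfsg.Agent.Lib.Fischer.Relations.M22Simple
import Cfsg.Agent.Lib.Linear.UnitarySix.InvolLift
import Cfsg.Agent.Lib.CosetEnum.Groups.U62Multiplier
import Cfsg.Agent.Lib.Local.TriBound.Stage

/-!
# Involutions of groups of type M(22) lift to involutions in central extensions by exponent two
-/

set_option autoImplicit false

namespace Cfsg.Lib.Fischer.Relations

open scoped commutatorElement

universe u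

/-- The primitive action of a simple group on a generating class of transpositions. -/
theorem primitive_of_simple {X : Type*} [Group X] [Finite X] [IsSimpleGroup X] {E : Set X}
    (hT : Trans E) (hne : ∃ a ∈ E, ∃ b ∈ E, a ≠ b) (hZ : Subgroup.center X = ⊥) :
    Cfsg.IsPrimitiveUnderConj E := by
  have hcore : ∀ p : ℕ, p.Prime → Cfsg.pCore p X = ⊥ := fun p hp => by
    haveI : Fact p.Prime := ⟨hp⟩
    rcases IsSimpleGroup.eq_bot_or_eq_top_of_normal (Cfsg.pCore p X) inferInstance with h | h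
    · exact h
    · exfalso
      have hpg : IsPGroup p X :=
        ((Lib.Core.pCore_isPGroup p X).of_equiv ((MulEquiv.subgroupCongr h).trans Subgroup.topEquiv))
      haveI := hpg.center_nontrivial
      exact (Subgroup.nontrivial_iff_ne_bot _).1 inferInstance hZ
  have h2 := (hcore 2 Nat.prime_two).le.trans (bot_le (a := Subgroup.center X))
  have h3 := (hcore 3 Nat.prime_three).le.trans (bot_le (a := Subgroup.center X))
  obtain ⟨L, hLn, hL, -, hF⟩ := exists_quasisimple hT hne h2 h3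
  haveI := hLn
  have htop : L = ⊤ := (IsSimpleGroup.eq_bot_or_eq_top_of_normal L hLn).resolve_left
    (Lib.Core.IsComponent.ne_bot hL)
  exact primitive_of_index hT hne h2 h3 hL hF (by rw [htop, Subgroup.index_top]; norm_num)

/-- In a simple group every involution commutes with a member of a conjugation invariant set of size `2 mod 4`. -/
theorem exists_commute_mem {X : Type*} [Group X] [Finite X] [IsSimpleGroup X] (hX : Subgroup.center X = ⊥)
    {E : Set X} (hconj : ∀ g : X, ∀ a ∈ E, g * a * g⁻¹ ∈ E) (h4 : ¬ 4 ∣ E.ncard) {x : X}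
    (hx : orderOf x = 2) : ∃ a ∈ E, Commute x a := by
  classical
  obtain ⟨P, hP⟩ := ((IsPGroup.of_card (p := 2) (n := 1) (by rw [Nat.card_zpowers, hx]; norm_num)) :
    IsPGroup 2 (Subgroup.zpowers x)).exists_le_sylow
  let A : MulAction (P : Subgroup X) ↥E :=
    { smul := fun g a => ⟨(g : X) * a * (g : X)⁻¹, hconj _ _ a.2⟩
      one_smul := fun a => Subtype.ext (by show (1 : X) * a * (1 : X)⁻¹ = a; simp)
      mul_smul := fun g h a => Subtype.ext (by
        show (g : X) * h * a * ((g : X) * h)⁻¹ = g * (h * a * (h : X)⁻¹) * (g : X)⁻¹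
        simp [mul_assoc]) }
  letI := A
  obtain ⟨a, ha⟩ : ∃ a : ↥E, ¬ 4 ∣ Nat.card (MulAction.orbit (P : Subgroup X) a) := by
    by_contra! hall
    refine h4 ?_
    haveI : Fintype (MulAction.orbitRel.Quotient (P : Subgroup X) ↥E) := Fintype.ofFinite _
    rw [← Nat.card_coe_set_eq, Nat.card_congr (MulAction.selfEquivSigmaOrbits (P : Subgroup X) ↥E), Nat.card_sigma]
    exact Finset.dvd_sum fun q _ => hall _
  have hidx : (MulAction.stabilizer (P : Subgroup X) a).index ∣ 2 := by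
    rw [MulAction.index_stabilizer]
    rw [Nat.card_coe_set_eq] at ha
    obtain ⟨k, hk⟩ := (P.isPGroup'.card_orbit a : ∃ n : ℕ, _)
    rw [Nat.card_coe_set_eq] at hk
    rw [hk] at ha ⊢
    rcases k with _ | _ | k
    · exact one_dvd _
    · exact dvd_rfl
    · exact absurd (Dvd.intro_left (2 ^ k) (by ring)) ha
  let Q : Subgroup X := (P : Subgroup X) ⊓ Subgroup.centralizer ({(a : X)} : Set X)
  have hQ : Q.subgroupOf (P : Subgroup X) = MulAction.stabilizer (P : Subgroup X) a := by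
    ext g
    rw [Subgroup.mem_subgroupOf, MulAction.mem_stabilizer_iff, Subgroup.mem_inf,
      Subgroup.mem_centralizer_singleton_iff, Subtype.ext_iff]
    exact ⟨fun h => mul_inv_eq_iff_eq_mul.2 h.2, fun h => ⟨g.2, mul_inv_eq_iff_eq_mul.1 h⟩⟩
  have hxP : x ∈ (P : Subgroup X) := hP (Subgroup.mem_zpowers x)
  by_cases hxQ : x ∈ Q
  · exact ⟨a, a.2, Subgroup.mem_centralizer_singleton_iff.1 hxQ.2⟩
  have hrel : Q.relIndex (P : Subgroup X) = 2 := by
    rcases (Nat.dvd_prime Nat.prime_two).1 (show Q.relIndex (P : Subgroup X) ∣ 2 by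
      rw [Subgroup.relIndex, hQ]; exact hidx) with h | h
    · exact absurd (Subgroup.relIndex_eq_one.1 h hxP) hxQ
    · exact h
  rcases Cfsg.Agent.S0111.result P Q inf_le_left hrel x hx hxP hxQ with ⟨M, hMn, hMi, hxM⟩ | ⟨g, hg⟩
  · rcases IsSimpleGroup.eq_bot_or_eq_top_of_normal M hMn with h | h
    · exfalso
      refine (?_ : x ≠ 1) (Subgroup.mem_bot.1 (hX ▸ Subgroup.mem_center_iff.2 ?_))
      · rintro rfl; exact hxM (one_mem _)
      · have hc : Nat.card X = 2 := by rw [← Subgroup.index_bot, ← h, hMi]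
        haveI := Fact.mk Nat.prime_two
        intro y
        have := isCyclic_of_prime_card hc
        letI := IsCyclic.commGroup (α := X)
        exact mul_comm y x
    · rw [h, Subgroup.index_top] at hMi
      omega
  · refine ⟨g⁻¹ * a * g, by simpa using hconj g⁻¹ a a.2, (Commute.conj_iff g).1 ?_⟩
    rw [show g * (g⁻¹ * a * g) * g⁻¹ = a by simp [mul_assoc]]
    exact Subgroup.mem_centralizer_singleton_iff.1 hg.2

/-- The kernel of a perfect central extension of PSU(6, 2) killed by the fourth power has exponent two. -/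
theorem psu_ker_exp {F : Type} [Field F] [Fintype F] (hF : Fintype.card F = 4) {D : Type u} [Group D] [Finite D]
    (ρ : D →* Cfsg.PSU 6 F 2) (hs : Function.Surjective ρ) (hc : ρ.ker ≤ Subgroup.center D)
    (hp : Group.IsPerfect D) (h4 : ∀ k ∈ ρ.ker, k ^ 4 = 1) : ∀ k ∈ ρ.ker, k * k = 1 := by
  let e : Shrink.{0} D ≃* D := Shrink.mulEquiv
  let σ : Shrink.{0} D →* Cfsg.PSU 6 F 2 := ρ.comp e.toMonoidHom
  haveI : Finite (Shrink.{0} D) := Finite.of_equiv D e.symm.toEquiv
  have hσ : Cfsg.IsStemExtension σ := by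
    refine ⟨hs.comp e.surjective, fun k hk => ?_, ?_⟩
    · refine Subgroup.mem_center_iff.2 fun g => e.injective ?_
      rw [map_mul, map_mul]
      exact Subgroup.mem_center_iff.1 (hc (show e k ∈ ρ.ker from hk)) (e g)
    · intro k _
      have h := (Subgroup.map_commutator (⊤ : Subgroup D) ⊤ e.symm.toMonoidHom)
      rw [← commutator_def, Group.isPerfect_def.1 hp, ← MonoidHom.range_eq_map,
        MonoidHom.range_eq_top.2 e.symm.surjective] at h
      rw [commutator_def, ← h]
      exact Subgroup.mem_top k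
  obtain ⟨p, hp'⟩ := (Cfsg.Lib.CosetEnum.U62Mult.multiplier hF).2 _ σ hσ
  have h6' : ∀ t : Multiplicative (ZMod 3 × ZMod 2 × ZMod 2), t ^ 6 = 1 := by decide
  intro k hk
  obtain ⟨t, ht⟩ := hp' ⟨e.symm k, by simpa [σ, MonoidHom.mem_ker] using hk⟩
  have h6 := h6' t
  have hk6 : k ^ 6 = 1 := by
    have h := congrArg (fun z : σ.ker => e (z : Shrink.{0} D)) (congrArg (· ^ 6) ht)
    simp only [← map_pow, h6, map_one, SubgroupClass.coe_pow, OneMemClass.coe_one] at h
    simpa [MulEquiv.apply_symm_apply] using h.symm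
  calc k * k = k ^ 2 * k ^ 4 := by rw [h4 k hk, mul_one, pow_two]
    _ = k ^ 6 := by rw [← pow_add]
    _ = 1 := hk6

set_option maxHeartbeats 2000000 in
/-- In a central extension by a group of exponent two of a simple group of type M(22), involutions lift. -/
theorem m22_involution_lift {C : Type*} [Group C] [Finite C] {X : Type*} [Group X] [Finite X] [IsSimpleGroup X]
    (π : C →* X) (hsurj : Function.Surjective π) (hker : π.ker ≤ Subgroup.center C)
    (hexp : ∀ k ∈ π.ker, k * k = 1) {E : Set X} (hE : Cfsg.IsThreeTranspositionClass E)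
    (h22 : Cfsg.IsOfTypeM22 X E) (x : X) (hx : orderOf x = 2) : ∃ c : C, π c = x ∧ c * c = 1 := by
  classical
  obtain ⟨hZ, d₁, hd₁, c₁, hc₁, hnc, ⟨F, i₁, i₂, hF, ⟨e₁⟩⟩, -⟩ := id h22
  have hF' : Fintype.card F = 2 ^ 2 := hF
  have hT := trans_of_class hE
  have hprim := primitive_of_simple hT ⟨d₁, hd₁, c₁, hc₁, fun h => hnc (h ▸ Commute.refl d₁)⟩ hZ
  obtain ⟨-, hsep, F₂, _, _, hF₂, hU⟩ := m22_setup hT hprim h22
  obtain ⟨b₁, hb₁⟩ := perp_nonempty_of_psu (D := E) (d := d₁) hF' e₁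
  have hw : ∃ a ∈ E, ∃ b ∈ E, a ≠ b ∧ Commute a b := ⟨d₁, hd₁, b₁, hb₁.1, Ne.symm hb₁.2.1, hb₁.2.2⟩
  have hFD := isFischer_of_primitive hT hprim hw hZ
  obtain ⟨hdH, hHperf⟩ := perp_perfect hFD hU hd₁ hprim hZ hsep
  have hcen := centralizer_eq_closure hT hprim h22 hd₁
  -- reduce to the centralizer of `d₁`
  obtain ⟨a, ha, hxa⟩ := exists_commute_mem hZ hT.conj (by rw [(m22_order hT hprim h22).1]; norm_num) hx
  obtain ⟨g, hg⟩ := hT.trans a ha d₁ hd₁
  suffices H : ∃ c : C, π c = g * x * g⁻¹ ∧ c * c = 1 by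
    obtain ⟨c, hc, hc2⟩ := H
    obtain ⟨g', rfl⟩ := hsurj g
    refine ⟨g'⁻¹ * c * g', by simp [hc, mul_assoc], ?_⟩
    calc g'⁻¹ * c * g' * (g'⁻¹ * c * g') = g'⁻¹ * (c * c) * g' := by group
      _ = 1 := by rw [hc2]; group
  set x' := g * x * g⁻¹
  have hxH : x' ∈ Subgroup.closure (perp E d₁) := by
    rw [hcen, Subgroup.mem_centralizer_singleton_iff, ← hg]
    exact ((Commute.conj_iff g).2 hxa).eq
  have hx'2 : x' * x' = 1 := by
    show g * x * g⁻¹ * (g * x * g⁻¹) = 1
    calc g * x * g⁻¹ * (g * x * g⁻¹) = g * (x ^ 2) * g⁻¹ := by rw [pow_two]; group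
      _ = 1 := by rw [← hx, pow_orderOf_eq_one]; group
  obtain ⟨H, hH⟩ : ∃ H, H = Subgroup.closure (perp E d₁) := ⟨_, rfl⟩
  have hcH : ∀ z : H, z ∈ Subgroup.center H → (z : X) = 1 ∨ (z : X) = d₁ := fun z hz => by
    refine eq_or_eq_of_centralizes hFD hU hd₁ hprim hZ (z := (z : X))
      (congrArg Subtype.val (Subgroup.mem_center_iff.1 hz ⟨d₁, hH ▸ hdH⟩)).symm
      (fun y hy => (congrArg Subtype.val (Subgroup.mem_center_iff.1 hz ⟨y, hH ▸ Subgroup.subset_closure hy⟩)).symm)
  -- the perfect group over `H`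
  set K := H.comap π
  set D := ⁅K, K⁆ with hD
  have hmapK : K.map π = H := Subgroup.map_comap_eq_self_of_surjective hsurj H
  have hmapD : D.map π = H := by rw [hD, Subgroup.map_commutator, hmapK, hH, hHperf]
  have hKD : K = D ⊔ π.ker := by rw [← Subgroup.comap_map_eq, hmapD]
  have hDperf : ⁅D, D⁆ = D := by
    refine le_antisymm (Subgroup.commutator_le.2 fun u hu v hv => D.mul_mem (D.mul_mem (D.mul_mem hu hv)
      (D.inv_mem hu)) (D.inv_mem hv)) ?_
    conv_lhs => rw [hD, hKD]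
    rw [Subgroup.commutator_le]
    intro u hu v hv
    obtain ⟨u₁, hu₁, u₂, hu₂, rfl⟩ := Subgroup.mem_sup_of_normal_right.1 hu
    obtain ⟨v₁, hv₁, v₂, hv₂, rfl⟩ := Subgroup.mem_sup_of_normal_right.1 hv
    have cu := fun y => Subgroup.mem_center_iff.1 (hker hu₂) y
    have cv := fun y => Subgroup.mem_center_iff.1 (hker hv₂) y
    rw [show ⁅u₁ * u₂, v₁ * v₂⁆ = ⁅u₁, v₁⁆ by
      simp only [commutatorElement_def, mul_inv_rev, mul_assoc]
      rw [← mul_assoc u₂ v₁, ← cu v₁, mul_assoc, ← mul_assoc u₂ v₂, ← cu v₂, mul_assoc,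
        mul_inv_cancel_left, ← mul_assoc v₂ u₁⁻¹, ← cv u₁⁻¹, mul_assoc, mul_inv_cancel_left]]
    exact Subgroup.commutator_mem_commutator hu₁ hv₁
  have hDp : Group.IsPerfect ↥D := Group.isPerfect_def.2 (by
    apply Subgroup.map_injective D.subtype_injective
    rw [Subgroup.map_subtype_commutator, hDperf, ← MonoidHom.range_eq_map, Subgroup.range_subtype])
  let r : ↥D →* ↥H := (π.comp D.subtype).codRestrict H fun t => hmapD ▸ Subgroup.mem_map_of_mem π t.2
  have hr : Function.Surjective r := fun h => by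
    obtain ⟨t, ht, he⟩ := (hmapD.symm ▸ h.2 : (h : X) ∈ D.map π)
    exact ⟨⟨t, ht⟩, Subtype.ext he⟩
  subst hH
  replace e₁ : ↥(Subgroup.closure (perp E d₁)) ⧸ Subgroup.center ↥(Subgroup.closure (perp E d₁)) ≃*
      Cfsg.PSU 6 F 2 := e₁
  let ρ : ↥D →* Cfsg.PSU 6 F 2 := e₁.toMonoidHom.comp ((QuotientGroup.mk' _).comp r)
  have hρ : Function.Surjective ρ := e₁.surjective.comp ((QuotientGroup.mk'_surjective _).comp hr)
  have hρk : ∀ k : ↥D, k ∈ ρ.ker → π k = 1 ∨ π k = d₁ := fun k hk => by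
    refine hcH (r k) ?_
    rw [← QuotientGroup.eq_one_iff]
    exact e₁.injective (by rw [map_one]; exact hk)
  have hdc : ∀ t : ↥D, Commute d₁ (π t) := fun t => by
    have h : π t ∈ Subgroup.centralizer ({d₁} : Set X) := hcen ▸ (r t).2
    exact (Subgroup.mem_centralizer_singleton_iff.1 h).symm
  have hρc : ρ.ker ≤ Subgroup.center ↥D := fun k hk => by
    refine Cfsg.Lib.Local.TriBound.mem_center_of_commutators hDp k fun w => ?_
    refine Subgroup.mem_center_iff.2 fun y => Subtype.ext (Subgroup.mem_center_iff.1 (hker ?_) y)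
    rw [MonoidHom.mem_ker]
    show π ((k : C) * w * (k : C)⁻¹ * (w : C)⁻¹) = 1
    rw [map_mul, map_mul, map_mul, map_inv, map_inv]
    rcases hρk k hk with h | h
    · rw [h]; group
    · rw [h, (hdc w).eq, mul_inv_cancel_right, mul_inv_cancel]
  have hd2 : d₁ * d₁ = 1 := mul_self hT hd₁
  have h4 : ∀ k ∈ ρ.ker, k ^ 4 = 1 := fun k hk => by
    apply Subtype.ext
    have h : (k : C) * k ∈ π.ker := by
      rw [MonoidHom.mem_ker, map_mul]
      rcases hρk k hk with h | h <;> simp [h, hd2]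
    rw [SubgroupClass.coe_pow, OneMemClass.coe_one]
    calc (k : C) ^ 4 = ((k : C) * k) * ((k : C) * k) := by simp [pow_succ, mul_assoc]
      _ = 1 := hexp _ h
  have hρ2 := psu_ker_exp hF ρ hρ hρc hDp h4
  obtain ⟨s, hs, hs2⟩ := Cfsg.Lib.Linear.UnitarySix.exists_lift (F := F) hF' ρ hρ hρc hρ2
    (e₁ (QuotientGroup.mk' _ ⟨x', hxH⟩)) (by
      rw [← map_mul, ← map_mul]
      rw [show (⟨x', hxH⟩ * ⟨x', hxH⟩ : ↥(Subgroup.closure (perp E d₁))) = 1 from Subtype.ext hx'2]
      simp)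
  have hq : (r s)⁻¹ * ⟨x', hxH⟩ ∈ Subgroup.center _ := QuotientGroup.eq.1 (e₁.injective hs)
  have hsC : (s : C) * s = 1 := congrArg Subtype.val hs2
  rcases hcH _ hq with h | h
  · exact ⟨s, inv_mul_eq_one.1 h, hsC⟩
  · obtain ⟨t, ht⟩ := hr ⟨d₁, hdH⟩
    have htd : π t = d₁ := congrArg Subtype.val ht
    have htk : t ∈ ρ.ker := by
      rw [MonoidHom.mem_ker]
      show e₁ (QuotientGroup.mk' _ (r t)) = 1
      rw [← map_one e₁]
      congr 1
      rw [QuotientGroup.mk'_apply, QuotientGroup.eq_one_iff, ht, Subgroup.mem_center_iff]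
      intro y
      exact Subtype.ext (Subgroup.mem_centralizer_singleton_iff.1 (hcen ▸ y.2 :
        (y : X) ∈ Subgroup.centralizer ({d₁} : Set X)))
    refine ⟨(s : C) * t, ?_, ?_⟩
    · rw [map_mul, htd, ← h]
      show π s * ((π s)⁻¹ * x') = x'
      simp
    · have hst : (s : ↥D) * t * (s * t) = 1 := by
        calc s * t * (s * t) = s * (t * s) * t := by group
          _ = s * (s * t) * t := by rw [Subgroup.mem_center_iff.1 (hρc htk) s]
          _ = s * s * (t * t) := by group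
          _ = 1 := by rw [hs2, hρ2 t htk, one_mul]
      exact congrArg Subtype.val hst

end Cfsg.Lib.Fischer.Relations
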