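import Cfsg.Agent.Lib.Fischer.Relations.Centralizer.Points

/-!
# The linear part of the centralizer has determinant one

A map of determinant `μ ≠ 1` would permute three hexads on a fixed triple of an isotropic plane, so three
triples would share one product.
-/

set_option autoImplicit false
set_option linter.unusedSectionVars false

namespace Cfsg.Lib.Fischer.Relations

open Module Matrix Cfsg Cfsg.Lib.Fischer Cfsg.Lib.Linear.Herm Cfsg.Agent.S1631
  Cfsg.Lib.Fischer.RadicalAbelian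
open Cfsg.Lib.Linear

variable {G : Type*} [Group G] [Finite G] {D : Set G}
  {F : Type} [Field F] [Fintype F] {hF : Fintype.card F = 2 ^ 2} {d : G}

namespace Coord

variable (C : Coord D d hF)
include C

/-- A linear map induced by an element centralizing `d` has determinant one. -/
theorem det_eq_one {g : G} (hg : Commute g d) {A : ↥(Cfsg.GU 6 F 2)} {τ : F ≃+* F}
    (hA : ∀ s ∈ perp D d, ∃ a : F, a ≠ 0 ∧ C.U.c (g * s * g⁻¹) = a • (A.1.1.mulVec (τ ∘ C.U.c s)))
    (hτ : ∀ x, τ x = x) : A.1.1.det = 1 := by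
  classical
  by_contra hμ
  have hK := fourField hF
  have hS := hB_isSymm hF 6
  have hB' := hB_nondegenerate hF 6
  obtain ⟨μ, hμdef⟩ : ∃ μ, μ = A.1.1.det := ⟨_, rfl⟩
  rw [← hμdef] at hμ
  have hμ0 : μ ≠ 0 := hμdef ▸ ((Matrix.isUnit_iff_isUnit_det _).1 A.1.isUnit).ne_zero
  obtain ⟨m, hm⟩ : ∃ m, m = μ * μ := ⟨_, rfl⟩
  have hm0 : m ≠ 0 := hm ▸ mul_ne_zero hμ0 hμ0
  have hmm : m * m = μ := by rw [hm]; linear_combination μ * hK.cube μ hμ0
  have hm1 : m ≠ 1 := fun e => hμ (by rw [← hmm, e, mul_one])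
  obtain ⟨B, hB, hBdet⟩ := exists_diag hF ![1, 1, 1, 1, m, m] (by intro i; fin_cases i <;> simp [hm0])
  obtain ⟨k, -, hkg, hc⟩ := C.adjust hg hA B (by
    rw [hBdet, ← hμdef, Fin.prod_univ_six]
    simp [hmm])
  obtain ⟨g1, hg1⟩ : ∃ g1, g1 = k * g := ⟨_, rfl⟩
  rw [← hg1] at hkg
  simp only [← hg1, hB] at hc
  obtain ⟨M, hM⟩ := C.exists_pm
  obtain ⟨ω, hω⟩ := Linear.exists_omega hK hS hB'
  have hω0 : ω ≠ 0 := fun e => hω (by rw [e, map_zero])
  have hω1 : ω ≠ 1 := fun e => hω (by rw [e, map_one])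
  have hsω1 : frob hF ω ≠ 1 := fun e => hω1 ((frob hF).injective (by rw [e, map_one]))
  have h1 : ∀ b c : F, (1 : F) ≠ 0 ∨ b ≠ 0 ∨ c ≠ 0 := fun _ _ => Or.inl one_ne_zero
  have hconj : ∀ a b c, a ≠ 0 ∨ b ≠ 0 ∨ c ≠ 0 → g1 * M a b c * g1⁻¹ = M a b (m * c) := fun a b c h =>
    C.pm_conj hM hkg hc h (by rwa [mul_ne_zero_iff, and_iff_right hm0])
      (by rw [diag_mulVec_pv τ _ a b c 1 1 m rfl rfl rfl rfl rfl rfl, hτ, hτ, hτ, one_mul, one_mul])
  obtain ⟨T, hT⟩ : ∃ T : F → List G,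
      ∀ l, T l = [M 1 1 l, M 1 ω (l * frob hF ω), M 1 (frob hF ω) (l * ω)] := ⟨_, fun _ => rfl⟩
  have hTprod : ∀ l : F, l ≠ 0 → (T (m * l)).prod = (T l).prod := by
    intro l hl
    obtain ⟨P, hP⟩ : ∃ P, P = M 1 0 0 * (M 0 1 0 * M 0 0 1) := ⟨_, rfl⟩
    obtain ⟨ε, hε, hεc⟩ : ∃ ε, P * (T l).prod = ε ∧ g1 * ε * g1⁻¹ = ε := by
      have h := C.pm_product hM [(1, 0, 0), (0, 1, 0), (0, 0, 1), (1, 1, l), (1, ω, l * frob hF ω),
        (1, frob hF ω, l * ω)] (by simp) (fun x => by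
          have e := Linear.hyperoval_act hK hS hB' (w := pv 1 0 0) (z := pv 0 1 0) (u := pv 0 0 1) hω hl x
          simpa [smul_pv, add_pv] using e)
      refine ⟨_, rfl, ?_⟩
      rcases h with h | h <;> simp only [List.map_cons, List.map_nil, List.prod_cons, List.prod_nil] at h <;>
        rw [show P * (T l).prod = _ by simpa [hP, hT, mul_assoc] using h]
      · simp
      · rw [hkg.eq, mul_inv_cancel_right]
    have hfix : g1 * P * g1⁻¹ = P := by
      have e1 := hconj 1 0 0 (h1 0 0)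
      have e2 := hconj 0 1 0 (Or.inr (Or.inl one_ne_zero))
      have e3 := hconj 0 0 1 (Or.inr (Or.inr one_ne_zero))
      rw [mul_zero] at e1 e2
      have e3' : M 0 0 (m * 1) = M 0 0 1 := by
        obtain ⟨hs, j, hj, ej⟩ := hM 0 0 (m * 1) (Or.inr (Or.inr (by simpa using hm0)))
        obtain ⟨ht, j', -, ej'⟩ := hM 0 0 1 (Or.inr (Or.inr one_ne_zero))
        refine C.eq_of_proj hs ht ⟨j, hj, ej⟩ ⟨j' * m⁻¹, ?_⟩
        rw [ej']
        simp [smul_pv, hm0]
      rw [e3'] at e3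
      rw [hP, ← conj_mul, ← conj_mul, e1, e2, e3]
    have hmap : g1 * (T l).prod * g1⁻¹ = (T (m * l)).prod := by
      rw [hT, hT, mul_assoc m, mul_assoc m]
      simp only [List.prod_cons, List.prod_nil, mul_one]
      rw [← conj_mul, ← conj_mul, hconj _ _ _ (h1 _ _), hconj _ _ _ (h1 _ _), hconj _ _ _ (h1 _ _)]
    rw [← hε, ← conj_mul, hfix, hmap] at hεc
    exact mul_left_cancel hεc
  have hinj : ∀ b c b' c', M 1 b c = M 1 b' c' → b = b' ∧ c = c' := fun b c b' c' e => by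
    obtain ⟨j, -, h1', h2, h3⟩ := C.pm_eq hM (h1 b c) (h1 b' c') e
    rw [mul_one] at h1'
    rw [← h1', one_mul] at h2 h3
    exact ⟨h2, h3⟩
  have hTnd : ∀ l, (T l).Nodup := by
    intro l
    rw [hT]
    simp only [List.nodup_cons, List.mem_cons, List.not_mem_nil, or_false, not_or, List.nodup_nil, and_true]
    exact ⟨⟨fun e => hω1 (hinj _ _ _ _ e).1.symm, fun e => hsω1 (hinj _ _ _ _ e).1.symm⟩,
      fun e => hω (hinj _ _ _ _ e).1.symm, not_false⟩
  have hTmem : ∀ l, ∀ x ∈ T l, x ∈ D := by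
    intro l x hx
    rw [hT] at hx
    simp only [List.mem_cons, List.not_mem_nil, or_false] at hx
    rcases hx with rfl | rfl | rfl <;> exact (hM _ _ _ (h1 _ _)).1.1
  have hTc : ∀ l, ∀ x ∈ T l, ∀ y ∈ T l, Commute x y := by
    intro l x hx y hy
    rw [hT] at hx hy
    simp only [List.mem_cons, List.not_mem_nil, or_false] at hx hy
    rcases hx with rfl | rfl | rfl <;> rcases hy with rfl | rfl | rfl <;> exact C.pm_commute hM (h1 _ _) (h1 _ _)
  have hnot : ∀ l l' : F, l ≠ l' → M 1 1 l ∉ T l' := by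
    intro l l' hne hx
    rw [hT] at hx
    simp only [List.mem_cons, List.not_mem_nil, or_false] at hx
    rcases hx with e | e | e
    exacts [hne (hinj _ _ _ _ e).2, hω1 (hinj _ _ _ _ e).1.symm, hsω1 (hinj _ _ _ _ e).1.symm]
  have hmemT : ∀ l, M 1 1 l ∈ T l := fun l => by simp [hT]
  obtain ⟨e, f, e', -, -, huniq⟩ := three_exactly_two C.trans C.prim C.cen C.sep C.nbr
    (by have := hTnd 1; rwa [hT] at this) (by have := hTmem 1; rwa [hT] at this)
    (by have := hTc 1; rwa [hT] at this)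
  have hsame : ∀ l, l ≠ 1 → (T l).prod = (T 1).prod → ∀ x, x ∈ T l ↔ x ∈ [e, f, e'] := by
    intro l hl hp
    rcases huniq (T l) (hTnd l) (by simp [hT]) (hTmem l) (hTc l) (by rw [hp, hT]) with h | h
    · exact absurd ((h _).1 (hmemT l)) (by rw [← hT 1]; exact hnot l 1 hl)
    · exact h
  have hp1 : (T m).prod = (T 1).prod := by simpa using hTprod 1 one_ne_zero
  have hp2 : (T (m * m)).prod = (T 1).prod := (hTprod m hm0).trans hp1
  have hne : m ≠ m * m := fun h => hm1 (mul_left_cancel₀ hm0 (by rw [mul_one]; exact h.symm))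
  exact hnot m (m * m) hne ((hsame (m * m) (by rw [hmm]; exact hμ) hp2 _).2
    ((hsame m hm1 hp1 _).1 (hmemT m)))

end Coord

end Cfsg.Lib.Fischer.Relations
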