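import Cfsg.Agent.Lib.Fischer.Relations.Centralizer.Points

/-!
# The neighbours of a member, and those fixed by a field automorphism

There are 693 isotropic points in dimension six, of which a diagonal semilinear map with field part
`x ↦ x²` fixes 31.
-/

set_option autoImplicit false
set_option linter.unusedSectionVars false

namespace Cfsg.Lib.Fischer.Relations

open Module Matrix Cfsg Cfsg.Lib.Fischer Cfsg.Lib.Linear.Herm Cfsg.Agent.S1631
  Cfsg.Lib.Fischer.RadicalAbelian
open Cfsg.Lib.Linear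

variable {G : Type*} [Group G] [Finite G] {D : Set G}
  {F : Type} [Field F] [Fintype F] {hF : Fintype.card F = 2 ^ 2} {d : G}

theorem hB_self (hF : Fintype.card F = 2 ^ 2) (v : Fin 6 → F) : hB hF 6 v v = ∑ i, v i * v i ^ 2 := by
  rw [hB_apply, Cfsg.hermForm]

/-- The nonidentity automorphism of the field of four elements is squaring. -/
theorem aut_sq (hF : Fintype.card F = 2 ^ 2) {τ : F ≃+* F} (hτ : ∃ x, τ x ≠ x) (x : F) : τ x = x * x := by
  classical
  have hK := fourField hF
  obtain ⟨ω, hω⟩ := Linear.exists_omega hK (hB_isSymm hF 6) (hB_nondegenerate hF 6)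
  have hω0 : ω ≠ 0 := fun e => hω (by rw [e, map_zero])
  have hω1 : ω ≠ 1 := fun e => hω (by rw [e, map_one])
  have h0 : frob hF ω ≠ 0 := fun e => hω0 ((frob hF).injective (by rw [e, map_zero]))
  have h1 : frob hF ω ≠ 1 := fun e => hω1 ((frob hF).injective (by rw [e, map_one]))
  have hall : ∀ y : F, y = 0 ∨ y = 1 ∨ y = ω ∨ y = frob hF ω := by
    intro y
    have hcard : ({0, 1, ω, frob hF ω} : Finset F).card = Fintype.card F := by
      rw [hF, Finset.card_insert_of_notMem (by simp [hω0.symm, h0.symm]),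
        Finset.card_insert_of_notMem (by simp [hω1.symm, h1.symm]),
        Finset.card_insert_of_notMem (by simpa using fun e => hω e.symm), Finset.card_singleton]
      norm_num
    simpa using (Finset.eq_univ_of_card _ hcard ▸ Finset.mem_univ y :)
  have hs : τ ω = frob hF ω := by
    rcases hall (τ ω) with e | e | e | e
    · exact absurd (τ.injective (e.trans (map_zero τ).symm)) hω0
    · exact absurd (τ.injective (e.trans (map_one τ).symm)) hω1
    · obtain ⟨y, hy⟩ := hτ
      refine absurd ?_ hy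
      rcases hall y with rfl | rfl | rfl | rfl
      exacts [map_zero τ, map_one τ, e, by rw [hK.sq, map_mul, e]]
    · exact e
  rcases hall x with rfl | rfl | rfl | rfl
  · simp
  · simp
  · rw [hs, hK.sq]
  · rw [hK.sq ω, map_mul, hs, hK.sq ω]

/-- Even nonzero vectors of length six. -/
theorem card_even_six :
    Nat.card {y : Fin 6 → Bool // (∃ i, y i = true) ∧ 2 ∣ (Finset.univ.filter fun i => y i = true).card} = 31 := by
  rw [Nat.card_eq_fintype_card, Fintype.card_subtype]
  decide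

namespace Coord

variable (C : Coord D d hF)
include C

theorem card_perp : Nat.card (perp D d) = 693 := by
  classical
  have hN : N F 2 6 0 = 2080 := by
    have h := (N_formula hF 6).1
    norm_num at h
    omega
  have hFu : Nat.card Fˣ = 3 := by rw [Nat.card_units, Nat.card_eq_fintype_card, hF]; norm_num
  obtain ⟨W, hW⟩ : ∃ W : Set (Fin 6 → F), W = {v | v ≠ 0 ∧ hB hF 6 v v = 0} := ⟨_, rfl⟩
  have hWc : Nat.card W + 1 = 2080 := by
    have e : Nat.card {v : Fin 6 → F | hB hF 6 v v = 0} = 2080 := by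
      rw [← hN]
      refine Nat.card_congr (Equiv.subtypeEquivRight fun v => ?_)
      show hB hF 6 v v = 0 ↔ _
      rw [hB_self]
      simp only [pow_succ, pow_zero, one_mul, mul_assoc]
    rw [← e, Nat.card_coe_set_eq, Nat.card_coe_set_eq]
    have hins : {v : Fin 6 → F | hB hF 6 v v = 0} = insert 0 W := by
      ext v
      by_cases hv : v = 0 <;> simp [hW, hv]
    rw [hins, Set.ncard_insert_of_notMem (by simp [hW])]
  have hbij : Nat.card (perp D d) * 3 = Nat.card W := by
    rw [← hFu, ← Nat.card_prod]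
    refine Nat.card_eq_of_bijective (fun p => ⟨(p.2 : F) • C.U.c p.1, hW ▸ ⟨smul_ne_zero p.2.ne_zero
      (C.U.ne _ p.1.2), by simp [LinearMap.map_smulₛₗ, C.U.iso _ p.1.2]⟩⟩) ⟨?_, ?_⟩
    · rintro ⟨s, k⟩ ⟨t, l⟩ h
      have e : (k : F) • C.U.c s = (l : F) • C.U.c t := congrArg Subtype.val h
      have hst : s = t := Subtype.ext (C.U.inj _ s.2 _ t.2 ((l : F)⁻¹ * k) (by
        rw [mul_smul, e, smul_smul, inv_mul_cancel₀ l.ne_zero, one_smul]))
      subst hst
      simp only [Prod.mk.injEq, true_and]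
      exact Units.ext (smul_left_injective F (C.U.ne _ s.2) e)
    · rintro ⟨v, hv⟩
      rw [hW] at hv
      obtain ⟨s, hs, k, hk, e⟩ := C.exists_point hv.1 hv.2
      refine ⟨(⟨s, hs⟩, (Units.mk0 k hk)⁻¹), Subtype.ext ?_⟩
      show ((Units.mk0 k hk)⁻¹ : Fˣ).val • C.U.c s = v
      rw [e, smul_smul, Units.val_inv_eq_inv_val, Units.val_mk0, inv_mul_cancel₀ hk, one_smul]
  omega

/-- A diagonal field map fixes 31 neighbours. -/
theorem card_fixed {g : G} (hg : Commute g d) {e : Fin 6 → F} (he : ∀ i, e i ≠ 0) {τ : F ≃+* F}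
    (hτ : ∀ x, τ x = x * x)
    (hc : ∀ s ∈ perp D d, ∃ k : F, k ≠ 0 ∧ C.U.c (g * s * g⁻¹) = k • (diagonal e).mulVec (τ ∘ C.U.c s)) :
    Nat.card {s : perp D d // g * (s : G) * g⁻¹ = s} = 31 := by
  classical
  haveI : Fact (Nat.Prime 2) := ⟨Nat.prime_two⟩
  have hK := fourField hF
  haveI : CharP F 2 := CharTwo.of_one_ne_zero_of_two_eq_zero one_ne_zero hK.two
  obtain ⟨w, hw⟩ : ∃ w : (Fin 6 → Bool) → (Fin 6 → F), ∀ y i, w y i = if y i = true then (e i)⁻¹ else 0 :=
    ⟨_, fun _ _ => rfl⟩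
  have hwsq : ∀ y, (diagonal e).mulVec (τ ∘ w y) = w y := fun y => by
    ext i
    rw [mulVec_diagonal, Function.comp_apply, hτ, hw]
    split
    · rw [← mul_assoc, mul_inv_cancel₀ (he i), one_mul]
    · simp
  have hwiso : ∀ y, hB hF 6 (w y) (w y) = 0 ↔ 2 ∣ (Finset.univ.filter fun i => y i = true).card := fun y => by
    rw [← CharP.cast_eq_zero_iff F 2, hB_self, Finset.sum_congr rfl fun i (_ : i ∈ Finset.univ) =>
      (show w y i * w y i ^ 2 = if y i = true then 1 else 0 by
        rw [hw]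
        split
        · rw [pow_two, ← mul_assoc, hK.cube _ (inv_ne_zero (he i))]
        · simp), Finset.sum_boole]
  have hwne : ∀ y : Fin 6 → Bool, (∃ i, y i = true) → w y ≠ 0 := fun y ⟨i, hi⟩ h0 => by
    have := congrFun h0 i
    rw [hw, if_pos hi] at this
    exact inv_ne_zero (he i) this
  rw [← card_even_six]
  symm
  have hch : ∀ y : {y : Fin 6 → Bool // (∃ i, y i = true) ∧ 2 ∣ (Finset.univ.filter fun i => y i = true).card},
      ∃ s : perp D d, g * (s : G) * g⁻¹ = s ∧ ∃ k : F, k ≠ 0 ∧ C.U.c s = k • w y.1 := fun y => by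
    obtain ⟨s, hs, k, hk, e1⟩ := C.exists_point (hwne _ y.2.1) ((hwiso _).2 y.2.2)
    obtain ⟨a, ha, e2⟩ := hc s hs
    refine ⟨⟨s, hs⟩, (C.eq_of_proj hs (C.conj_mem hg hs) ⟨k, hk, e1⟩ ⟨a * τ k, ?_⟩).symm, k, hk, e1⟩
    rw [e2, e1, show τ ∘ (k • w y.1) = τ k • (τ ∘ w y.1) by ext i; simp, mulVec_smul, hwsq, smul_smul]
  choose f hf k hk hcf using hch
  refine Nat.card_eq_of_bijective (fun y => ⟨f y, hf y⟩) ⟨?_, ?_⟩
  · intro y y' h
    have hff : f y = f y' := congrArg Subtype.val h
    have e1 : k y • w y.1 = k y' • w y'.1 := by rw [← hcf, ← hcf, hff]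
    refine Subtype.ext (funext fun i => ?_)
    have e2 := congrFun e1 i
    simp only [Pi.smul_apply, hw, smul_eq_mul] at e2
    cases h1 : y.1 i <;> cases h2 : y'.1 i <;> simp [h1, h2, hk y, hk y', he i] at e2 ⊢
  · rintro ⟨⟨s, hs⟩, hfix⟩
    obtain ⟨a, ha, e2⟩ := hc s hs
    rw [show g * s * g⁻¹ = s from hfix] at e2
    obtain ⟨y, hy⟩ : ∃ y : Fin 6 → Bool, ∀ i, y i = decide (C.U.c s i ≠ 0) := ⟨_, fun _ => rfl⟩
    have hv : a • C.U.c s = w y := by
      ext i
      have e3 := congrFun e2 i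
      simp only [Pi.smul_apply, smul_eq_mul, mulVec_diagonal, Function.comp_apply, hτ] at e3
      rw [Pi.smul_apply, smul_eq_mul, hw]
      simp only [hy, decide_eq_true_eq]
      split
      case isFalse h => rw [not_not.1 h, mul_zero]
      case isTrue h =>
        refine eq_inv_of_mul_eq_one_left (mul_right_cancel₀ h ?_)
        rw [one_mul]
        exact Eq.trans (by ring) e3.symm
    have hex : ∃ i, y i = true := by
      by_contra hno
      push Not at hno
      exact smul_ne_zero ha (C.U.ne s hs) (hv.trans (funext fun i => by rw [hw, if_neg (hno i)]; rfl))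
    have hiso : hB hF 6 (w y) (w y) = 0 := by
      rw [← hv]
      simp [LinearMap.map_smulₛₗ, C.U.iso s hs]
    refine ⟨⟨y, hex, (hwiso y).1 hiso⟩, Subtype.ext (Subtype.ext ?_)⟩
    exact (C.eq_of_proj hs (f _).2 ⟨a⁻¹, inv_ne_zero ha, by rw [← hv, smul_smul, inv_mul_cancel₀ ha, one_smul]⟩
      ⟨k _, hcf _⟩).symm

end Coord

end Cfsg.Lib.Fischer.Relations
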