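import Cfsg.Agent.Lib.Fischer.Relations.M22Simple
import Cfsg.Agent.Lib.Linear.AutPSU.Out

/-!
# The action of a centralizer on a neighbourhood of type M(22)

Conjugation by an element centralizing `d` is semilinear on the isotropic points of the neighbourhood,
and every special unitary matrix is realised by the neighbourhood group.
-/

set_option autoImplicit false
set_option linter.unusedSectionVars false

namespace Cfsg.Lib.Fischer.Relations

open Module Cfsg Cfsg.Lib.Fischer Cfsg.Lib.Linear.Herm Cfsg.Agent.S1631 Cfsg.Lib.Fischer.RadicalAbelian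
open Cfsg.Lib.Linear

variable {G : Type*} [Group G] [Finite G] {D : Set G}
  {F : Type} [Field F] [Fintype F] {hF : Fintype.card F = 2 ^ 2} {d : G}

/-- Coordinates of a neighbourhood together with the maps induced on them. -/
structure Coord (D : Set G) (d : G) (hF : Fintype.card F = 2 ^ 2) where
  fis : IsFischer D
  prim : Cfsg.IsPrimitiveUnderConj D
  cen : Subgroup.center G = ⊥
  sep : ∀ a ∈ D, ∀ b ∈ D, (∀ e ∈ D, Commute a e ↔ Commute b e) → a = b
  nbr : ∀ a ∈ D, Nonempty (UData (perp D a) (hB hF 6))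
  mem : d ∈ D
  U : UData (perp D d) (hB hF 6)
  semiAut : ∀ ψ : MulAut G, ψ d = d → (∀ x ∈ D, ψ x ∈ D) → ∃ (A : ↥(Cfsg.GU 6 F 2)) (τ : F ≃+* F),
    ∀ s ∈ perp D d, ∃ a : F, a ≠ 0 ∧ U.c (ψ s) = a • (A.1.1.mulVec (τ ∘ U.c s))
  real : ∀ T : ↥(Cfsg.SU 6 F 2), ∃ k ∈ Subgroup.closure (perp D d), ∀ s ∈ perp D d,
    ∃ a : F, a ≠ 0 ∧ U.c (k * s * k⁻¹) = a • AutPSU.act T (U.c s)

theorem exists_coord (hFD : IsFischer D) (hprim : Cfsg.IsPrimitiveUnderConj D) (hZ : Subgroup.center G = ⊥)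
    (hsep : ∀ a ∈ D, ∀ b ∈ D, (∀ e ∈ D, Commute a e ↔ Commute b e) → a = b)
    (hU : ∀ a ∈ D, Nonempty (UData (perp D a) (hB hF 6))) (hd : d ∈ D)
    (e : ↥(Subgroup.closure (perp D d)) ⧸ Subgroup.center ↥(Subgroup.closure (perp D d)) ≃* Cfsg.PSU 6 F 2) :
    Nonempty (Coord D d hF) := by
  classical
  have hD := hFD.toTrans
  haveI : Fact (Nat.Prime 2) := ⟨Nat.prime_two⟩
  have hK := fourField hF
  haveI : CharP F 2 := CharTwo.of_one_ne_zero_of_two_eq_zero one_ne_zero hK.two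
  have hn : 2 ≤ 6 := by norm_num
  obtain ⟨U, hA⟩ := exists_udata_image hD hsep hd hF e
  have hskew : AutPSU.Skew hF (1 : F) := by
    show (1 : F) + frob hF 1 = 0
    rw [map_one, one_add_one_eq_two, hK.two]
  have him : ∀ (s : G) (hs : s ∈ perp D d), e (QuotientGroup.mk ⟨s, Subgroup.subset_closure hs⟩) =
      AutPSU.tP hF (U.c s) 1 := fun s hs => by
    obtain ⟨A, hAe, hAx⟩ := hA s hs
    rw [← hAe, AutPSU.tP]
    refine congrArg QuotientGroup.mk (AutPSU.su_ext fun x => ?_)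
    rw [AutPSU.act_tU hF (U.iso s hs) hskew, one_mul, ← hAx x, model_apply]
    rfl
  have hiso : ∀ s ∈ perp D d, AutPSU.Iso hF (U.c s) := fun s hs => ⟨U.ne s hs, U.iso s hs⟩
  refine ⟨⟨hFD, hprim, hZ, hsep, hU, hd, U, fun ψ hψd hψD => ?_, fun T => ?_⟩⟩
  · have himg : ψ '' perp D d = perp D d := by
      refine Set.eq_of_subset_of_ncard_le ?_ (le_of_eq (Set.ncard_image_of_injective _ ψ.injective).symm)
      rintro _ ⟨y, hy, rfl⟩
      refine ⟨hψD y hy.1, fun e => hy.2.1 (ψ.injective (e.trans hψd.symm)), ?_⟩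
      have := hy.2.2.map ψ.toMonoidHom
      rwa [MulEquiv.coe_toMonoidHom, hψd] at this
    have hperp : ∀ s, s ∈ perp D d → ψ s ∈ perp D d := fun s hs => himg ▸ ⟨s, hs, rfl⟩
    have hmap : (Subgroup.closure (perp D d)).map ψ.toMonoidHom = Subgroup.closure (perp D d) := by
      rw [MonoidHom.map_closure, MulEquiv.coe_toMonoidHom, himg]
    obtain ⟨θ, hθ⟩ : ∃ θ : ↥(Subgroup.closure (perp D d)) ≃* ↥(Subgroup.closure (perp D d)),
        ∀ x, ((θ x : ↥(Subgroup.closure (perp D d))) : G) = ψ (x : G) :=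
      ⟨(ψ.subgroupMap _).trans (MulEquiv.subgroupCongr hmap), fun x => rfl⟩
    let β : MulAut (Cfsg.PSU 6 F 2) :=
      (e.symm.trans (QuotientGroup.congr _ _ θ (AutPSL.map_center θ))).trans e
    obtain ⟨A, τ, hβ⟩ := AutPSU.exists_decomp hF (p := 2) (by norm_num : 3 ≤ 6) (by omega) β
    refine ⟨A, τ, fun s hs => ?_⟩
    have h1 : β (AutPSU.tP hF (U.c s) 1) = AutPSU.tP hF (U.c (ψ s)) 1 := by
      rw [← him s hs, ← him _ (hperp s hs)]
      simp only [β, MulEquiv.trans_apply, MulEquiv.symm_apply_apply, QuotientGroup.congr_mk]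
      exact congrArg e (congrArg QuotientGroup.mk (Subtype.ext (hθ _)))
    rw [hβ, MulAut.mul_apply, AutPSU.fld_tP hF τ (U.iso s hs) hskew, map_one,
      AutPSU.innd_tP hF A ((hiso s hs).map hF τ).2 hskew] at h1
    obtain ⟨a, ha, hc, -⟩ := AutPSU.tP_inj hF 2 hn (((hiso s hs).map hF τ).mulVec hF A)
      (hiso _ (hperp s hs)) one_ne_zero hskew hskew h1
    exact ⟨a, ha, hc⟩
  · obtain ⟨k, hk⟩ := QuotientGroup.mk_surjective (e.symm (T : Cfsg.PSU 6 F 2))
    refine ⟨k, k.2, fun s hs => ?_⟩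
    have hkc : ∀ s ∈ perp D d, (k : G) * s * (k : G)⁻¹ ∈ perp D d := fun s hs =>
      ((conj_mem_perp hD hd (Subgroup.closure_mono (Set.subset_insert _ _) k.2)).2 s hs).1
    have h1 : AutPSU.tP hF (AutPSU.act T (U.c s)) 1 = AutPSU.tP hF (U.c ((k : G) * s * (k : G)⁻¹)) 1 := by
      rw [← AutPSU.conj_tP hF T (U.iso s hs) hskew, ← him s hs, ← him _ (hkc s hs),
        ← e.apply_symm_apply (T : Cfsg.PSU 6 F 2), ← hk, ← map_inv, ← map_mul, ← map_mul]
      rfl
    obtain ⟨a, ha, hc, -⟩ := AutPSU.tP_inj hF 2 hn ((hiso s hs).act hF T) (hiso _ (hkc s hs)) one_ne_zero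
      hskew hskew h1
    exact ⟨a, ha, hc⟩

namespace Coord

variable (C : Coord D d hF)
include C

theorem trans : Trans D := C.fis.toTrans

theorem closure_le : Subgroup.closure (perp D d) ≤ Subgroup.centralizer ({d} : Set G) :=
  (Subgroup.closure_le _).2 fun x hx => Subgroup.mem_centralizer_singleton_iff.2 hx.2.2.eq.symm

theorem conj_mem {g s : G} (hg : Commute g d) (hs : s ∈ perp D d) : g * s * g⁻¹ ∈ perp D d := by
  have h := (mem_perp_conj C.trans g d (g * s * g⁻¹)).2 (by simpa [mul_assoc] using hs)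
  rwa [show g * d * g⁻¹ = d by rw [hg.eq, mul_inv_cancel_right]] at h

theorem commute_of_mem {k : G} (hk : k ∈ Subgroup.closure (perp D d)) : Commute k d :=
  Subgroup.mem_centralizer_singleton_iff.1 (C.closure_le hk)

/-- Conjugation by an element centralizing `d` is semilinear on the points. -/
theorem semi (g : G) (hg : Commute g d) : ∃ (A : ↥(Cfsg.GU 6 F 2)) (τ : F ≃+* F), ∀ s ∈ perp D d,
    ∃ a : F, a ≠ 0 ∧ C.U.c (g * s * g⁻¹) = a • (A.1.1.mulVec (τ ∘ C.U.c s)) :=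
  C.semiAut (MulAut.conj g) (by rw [MulAut.conj_apply, hg.eq, mul_inv_cancel_right])
    fun x hx => C.trans.conj g x hx

/-- An element moving no point is `1` or `d`. -/
theorem eq_or_eq {g : G} (hg : Commute g d) (h : ∀ s ∈ perp D d, ∃ a : F, C.U.c (g * s * g⁻¹) = a • C.U.c s) :
    g = 1 ∨ g = d :=
  eq_or_eq_of_centralizes C.fis C.nbr C.mem C.prim C.cen hg fun y hy => by
    obtain ⟨a, ha⟩ := h y hy
    exact mul_inv_eq_iff_eq_mul.1 (C.U.inj y hy _ (C.conj_mem hg hy) a ha).symm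

/-- Multiplying by the neighbourhood group changes the linear part to any other of the same determinant. -/
theorem adjust {g : G} (hg : Commute g d) {A : ↥(Cfsg.GU 6 F 2)} {τ : F ≃+* F}
    (hA : ∀ s ∈ perp D d, ∃ a : F, a ≠ 0 ∧ C.U.c (g * s * g⁻¹) = a • (A.1.1.mulVec (τ ∘ C.U.c s)))
    (B : ↥(Cfsg.GU 6 F 2)) (hdet : B.1.1.det = A.1.1.det) :
    ∃ k ∈ Subgroup.closure (perp D d), Commute (k * g) d ∧ ∀ s ∈ perp D d,
      ∃ a : F, a ≠ 0 ∧ C.U.c (k * g * s * (k * g)⁻¹) = a • (B.1.1.mulVec (τ ∘ C.U.c s)) := by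
  classical
  have hM : (B * A⁻¹).1.1.det = 1 := by
    show (B.1.1 * (A.1⁻¹).1).det = 1
    rw [Matrix.det_mul, hdet, ← Matrix.det_mul, Units.mul_inv, Matrix.det_one]
  obtain ⟨k, hk, hkc⟩ := C.real ⟨⟨(B * A⁻¹).1.1, hM⟩, (B * A⁻¹).2⟩
  refine ⟨k, hk, (C.commute_of_mem hk).mul_left hg, fun s hs => ?_⟩
  obtain ⟨a, ha, ea⟩ := hA s hs
  obtain ⟨b, hb, eb⟩ := hkc _ (C.conj_mem hg hs)
  refine ⟨b * a, mul_ne_zero hb ha, ?_⟩
  rw [show k * g * s * (k * g)⁻¹ = k * (g * s * g⁻¹) * k⁻¹ by group, eb, ea, AutPSU.act_smul, smul_smul]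
  congr 1
  show ((B * A⁻¹).1.1).mulVec (A.1.1.mulVec _) = _
  rw [Matrix.mulVec_mulVec]
  congr 1
  show B.1.1 * (A.1⁻¹).1 * A.1.1 = B.1.1
  rw [Matrix.mul_assoc, Units.inv_mul, Matrix.mul_one]

/-- A unitary linear map of determinant one in the centralizer comes from the neighbourhood group. -/
theorem mem_of_det {g : G} (hg : Commute g d) {A : ↥(Cfsg.GU 6 F 2)} {τ : F ≃+* F}
    (hA : ∀ s ∈ perp D d, ∃ a : F, a ≠ 0 ∧ C.U.c (g * s * g⁻¹) = a • (A.1.1.mulVec (τ ∘ C.U.c s)))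
    (hτ : ∀ x, τ x = x) (hdet : A.1.1.det = 1) : g ∈ Subgroup.closure (perp D d) := by
  obtain ⟨k, hk, hkg, hc⟩ := C.adjust hg hA 1 (by
    rw [hdet]; show (1 : Matrix (Fin 6) (Fin 6) F).det = 1; exact Matrix.det_one)
  have h : k * g ∈ Subgroup.closure (perp D d) := by
    rcases C.eq_or_eq hkg (fun s hs => by
      obtain ⟨a, -, ea⟩ := hc s hs
      refine ⟨a, ?_⟩
      rw [ea]
      show a • (1 : Matrix (Fin 6) (Fin 6) F).mulVec (τ ∘ C.U.c s) = _
      rw [Matrix.one_mulVec, show τ ∘ C.U.c s = C.U.c s from funext fun i => hτ _]) with h | h <;> rw [h]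
    · exact one_mem _
    · exact (perp_perfect C.fis C.nbr C.mem C.prim C.cen C.sep).1
  simpa using mul_mem (inv_mem hk) h

/-- The member on an isotropic point. -/
theorem exists_point {v : Fin 6 → F} (hv : v ≠ 0) (h0 : hB hF 6 v v = 0) :
    ∃ s ∈ perp D d, ∃ k : F, k ≠ 0 ∧ C.U.c s = k • v := C.U.every v h0 hv

end Coord

end Cfsg.Lib.Fischer.Relations
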