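import Cfsg.Agent.Lib.Fischer.Relations.Centralizer.Maps

/-!
# A totally isotropic plane and diagonal maps in a neighbourhood of type M(22)

The vectors `(a, a, b, b, c, c)` form a totally isotropic plane. Diagonal matrices with nonzero entries
are unitary over the field of four elements, and act on that plane coordinatewise.
-/

set_option autoImplicit false
set_option linter.unusedSectionVars false

namespace Cfsg.Lib.Fischer.Relations

open Module Matrix Cfsg Cfsg.Lib.Fischer Cfsg.Lib.Linear.Herm Cfsg.Agent.S1631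
  Cfsg.Lib.Fischer.RadicalAbelian
open Cfsg.Lib.Linear

variable {G : Type*} [Group G] [Finite G] {D : Set G}
  {F : Type} [Field F] [Fintype F] {hF : Fintype.card F = 2 ^ 2} {d : G}

/-- The vectors of a totally isotropic plane. -/
def pv (a b c : F) : Fin 6 → F := ![a, a, b, b, c, c]

theorem pv_orth (hF : Fintype.card F = 2 ^ 2) (a b c a' b' c' : F) :
    hB hF 6 (pv a b c) (pv a' b' c') = 0 := by
  simp only [hB_apply, Cfsg.hermForm, pv, Fin.sum_univ_six, Matrix.cons_val_zero, Matrix.cons_val_one,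
    Matrix.cons_val]
  linear_combination (a' * a ^ 2 + b' * b ^ 2 + c' * c ^ 2) * (fourField hF).two

theorem pv_eq_smul {a b c a' b' c' k : F} (h : pv a b c = k • pv a' b' c') :
    a = k * a' ∧ b = k * b' ∧ c = k * c' := by
  refine ⟨?_, ?_, ?_⟩
  · have := congrFun h 0; simpa [pv] using this
  · have := congrFun h 2; simpa [pv] using this
  · have := congrFun h 4; simpa [pv] using this

theorem smul_pv (k a b c : F) : k • pv a b c = pv (k * a) (k * b) (k * c) := by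
  ext i
  fin_cases i <;> simp [pv]

theorem add_pv (a b c a' b' c' : F) : pv a b c + pv a' b' c' = pv (a + a') (b + b') (c + c') := by
  ext i
  fin_cases i <;> simp [pv]

theorem pv_ne_zero {a b c : F} (h : a ≠ 0 ∨ b ≠ 0 ∨ c ≠ 0) : pv a b c ≠ 0 := fun h0 => by
  obtain ⟨ha, hb, hc⟩ := pv_eq_smul (k := (0 : F)) (a' := 0) (b' := 0) (c' := 0) (by rw [zero_smul]; exact h0)
  simp [ha, hb, hc] at h

theorem pv_inj {a b c a' b' c' : F} (h : pv a b c = pv a' b' c') : a = a' ∧ b = b' ∧ c = c' := by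
  have := pv_eq_smul (k := (1 : F)) (h.trans (one_smul F (pv a' b' c')).symm)
  simpa using this

theorem diag_mulVec_pv (τ : F ≃+* F) (e : Fin 6 → F) (a b c x y z : F) (h0 : e 0 = x) (h1 : e 1 = x) (h2 : e 2 = y)
    (h3 : e 3 = y) (h4 : e 4 = z) (h5 : e 5 = z) :
    (Matrix.diagonal e).mulVec (τ ∘ pv a b c) = pv (x * τ a) (y * τ b) (z * τ c) := by
  ext i
  rw [Matrix.mulVec_diagonal]
  fin_cases i <;> simp [pv, h0, h1, h2, h3, h4, h5]

/-- Diagonal unitary maps. -/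
theorem exists_diag (hF : Fintype.card F = 2 ^ 2) (e : Fin 6 → F) (he : ∀ i, e i ≠ 0) :
    ∃ B : ↥(Cfsg.GU 6 F 2), B.1.1 = Matrix.diagonal e ∧ B.1.1.det = ∏ i, e i := by
  have hdet : IsUnit (Matrix.diagonal e).det := by
    rw [Matrix.det_diagonal, isUnit_iff_ne_zero]
    exact Finset.prod_ne_zero_iff.2 fun i _ => he i
  refine ⟨⟨Matrix.nonsingInvUnit _ hdet, mem_GU.2 (hermForm_diagonal e fun i => ?_)⟩, rfl, Matrix.det_diagonal⟩
  rw [pow_succ, pow_two]
  exact (fourField hF).cube _ (he i)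

/-- Proportional lists have the same displacement. -/
theorem act_scale {α : Type*} {f : α → (Fin 6 → F)} {l : List α} {vs : List (Fin 6 → F)}
    (h : List.Forall₂ (fun s v => ∃ k : F, k ≠ 0 ∧ f s = k • v) l vs) (x : Fin 6 → F) :
    Linear.act (hB hF 6) (l.map f) x = Linear.act (hB hF 6) vs x := by
  induction h with
  | nil => rfl
  | @cons s v l vs hsv _ ih =>
    obtain ⟨k, hk, e⟩ := hsv
    rw [List.map_cons, Linear.act_cons, Linear.act_cons, ih, e, LinearMap.map_smulₛₗ, LinearMap.smul_apply,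
      smul_eq_mul, smul_smul, (fourField hF).sq k]
    congr 2
    rw [mul_right_comm, (fourField hF).cube k hk, one_mul]

namespace Coord

variable (C : Coord D d hF)
include C

/-- Members on proportional points coincide. -/
theorem eq_of_proj {s t : G} (hs : s ∈ perp D d) (ht : t ∈ perp D d) {v : Fin 6 → F}
    (h : ∃ k : F, k ≠ 0 ∧ C.U.c s = k • v) (h' : ∃ k : F, C.U.c t = k • v) : s = t := by
  obtain ⟨k, hk, e⟩ := h
  obtain ⟨k', e'⟩ := h'
  exact C.U.inj s hs t ht (k' * k⁻¹) (by rw [e', e, smul_smul, mul_assoc, inv_mul_cancel₀ hk, mul_one])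

/-- The members on the points of the plane. -/
theorem exists_pm : ∃ M : F → F → F → G, ∀ a b c, a ≠ 0 ∨ b ≠ 0 ∨ c ≠ 0 →
    M a b c ∈ perp D d ∧ ∃ k : F, k ≠ 0 ∧ C.U.c (M a b c) = k • pv a b c := by
  classical
  refine ⟨fun a b c => if h : a ≠ 0 ∨ b ≠ 0 ∨ c ≠ 0 then
    (C.exists_point (pv_ne_zero h) (pv_orth hF a b c a b c)).choose else 1, fun a b c h => ?_⟩
  simp only [dif_pos h]
  exact (C.exists_point (pv_ne_zero h) (pv_orth hF a b c a b c)).choose_spec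

variable {M : F → F → F → G} (hM : ∀ a b c, a ≠ 0 ∨ b ≠ 0 ∨ c ≠ 0 →
    M a b c ∈ perp D d ∧ ∃ k : F, k ≠ 0 ∧ C.U.c (M a b c) = k • pv a b c)
include hM

theorem pm_commute {a b c a' b' c' : F} (h : a ≠ 0 ∨ b ≠ 0 ∨ c ≠ 0) (h' : a' ≠ 0 ∨ b' ≠ 0 ∨ c' ≠ 0) :
    Commute (M a b c) (M a' b' c') := by
  obtain ⟨hs, k, -, e⟩ := hM a b c h
  obtain ⟨ht, k', -, e'⟩ := hM a' b' c' h'
  refine (C.U.comm _ hs _ ht).2 ?_
  rw [e, e', map_smul, LinearMap.map_smulₛₗ, LinearMap.smul_apply, pv_orth, smul_zero, smul_zero]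

theorem pm_eq {a b c a' b' c' : F} (h : a ≠ 0 ∨ b ≠ 0 ∨ c ≠ 0) (h' : a' ≠ 0 ∨ b' ≠ 0 ∨ c' ≠ 0)
    (e : M a b c = M a' b' c') : ∃ k : F, k ≠ 0 ∧ a = k * a' ∧ b = k * b' ∧ c = k * c' := by
  obtain ⟨-, k, hk, e1⟩ := hM a b c h
  obtain ⟨-, k', hk', e2⟩ := hM a' b' c' h'
  rw [e, e2] at e1
  refine ⟨k⁻¹ * k', mul_ne_zero (inv_ne_zero hk) hk', pv_eq_smul ?_⟩
  rw [mul_smul, e1, smul_smul, inv_mul_cancel₀ hk, one_smul]

/-- The image of a member of the plane. -/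
theorem pm_conj {g : G} (hg : Commute g d) {A : Matrix (Fin 6) (Fin 6) F} {τ : F ≃+* F}
    (hc : ∀ s ∈ perp D d, ∃ k : F, k ≠ 0 ∧ C.U.c (g * s * g⁻¹) = k • A.mulVec (τ ∘ C.U.c s))
    {a b c a' b' c' : F} (h : a ≠ 0 ∨ b ≠ 0 ∨ c ≠ 0) (h' : a' ≠ 0 ∨ b' ≠ 0 ∨ c' ≠ 0)
    (e : A.mulVec (τ ∘ pv a b c) = pv a' b' c') : g * M a b c * g⁻¹ = M a' b' c' := by
  obtain ⟨hs, k, -, e1⟩ := hM a b c h
  obtain ⟨ht, k', hk', e2⟩ := hM a' b' c' h'
  obtain ⟨j, -, e3⟩ := hc _ hs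
  have hv : τ ∘ (k • pv a b c) = τ k • (τ ∘ pv a b c) := by
    ext i
    simp
  exact (C.eq_of_proj ht (C.conj_mem hg hs) ⟨k', hk', e2⟩
    ⟨j * τ k, by rw [e3, e1, hv, Matrix.mulVec_smul, e, smul_smul]⟩).symm

/-- Points of the plane with no displacement give members with product `1` or `d`. -/
theorem pm_product (vs : List (F × F × F)) (hvs : ∀ v ∈ vs, v.1 ≠ 0 ∨ v.2.1 ≠ 0 ∨ v.2.2 ≠ 0)
    (h0 : ∀ x, Linear.act (hB hF 6) (vs.map fun v => pv v.1 v.2.1 v.2.2) x = 0) :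
    (vs.map fun v => M v.1 v.2.1 v.2.2).prod = 1 ∨ (vs.map fun v => M v.1 v.2.1 v.2.2).prod = d := by
  have hl : ∀ y ∈ vs.map (fun v => M v.1 v.2.1 v.2.2), y ∈ perp D d := by
    simp only [List.mem_map]
    rintro _ ⟨v, hv, rfl⟩
    exact (hM _ _ _ (hvs v hv)).1
  have hc : ∀ x ∈ vs.map (fun v => M v.1 v.2.1 v.2.2), ∀ y ∈ vs.map (fun v => M v.1 v.2.1 v.2.2),
      Commute x y := by
    simp only [List.mem_map]
    rintro _ ⟨v, hv, rfl⟩ _ ⟨w, hw, rfl⟩
    exact C.pm_commute hM (hvs v hv) (hvs w hw)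
  have hK := fourField hF
  have hf : List.Forall₂ (fun s v => ∃ k : F, k ≠ 0 ∧ C.U.c s = k • v)
      (vs.map fun v => M v.1 v.2.1 v.2.2) (vs.map fun v => pv v.1 v.2.1 v.2.2) := by
    rw [List.forall₂_map_left_iff, List.forall₂_map_right_iff, List.forall₂_same]
    exact fun v hv => (hM _ _ _ (hvs v hv)).2
  exact eq_or_eq_of_centralizes C.fis C.nbr C.mem C.prim C.cen
    (Commute.list_prod_left _ _ fun a ha => ((hl a ha).2.2).symm)
    ((C.U.central_iff hK (hB_isSymm hF 6) (hB_nondegenerate hF 6) (by rw [finrank_fin_fun]; norm_num) hl hc).2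
      fun x => by rw [act_scale hf]; exact h0 x)

end Coord

end Cfsg.Lib.Fischer.Relations
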