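import Cfsg.Agent.Lib.Fischer.Relations.Centralizer.Main
import Cfsg.Agent.Lib.Linear.Isotropic

/-!
# Counts around a member of type M(22)

Two commuting members have 180 common neighbours. A member outside a neighbourhood commutes with at most
six points of a totally isotropic plane, and a commuting set has at most 22 members.
-/

set_option autoImplicit false
set_option linter.unusedSectionVars false

namespace Cfsg.Lib.Fischer.Relations

open Module Matrix Cfsg Cfsg.Lib.Fischer Cfsg.Lib.Linear.Herm Cfsg.Agent.S1631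
  Cfsg.Lib.Fischer.RadicalAbelian
open Cfsg.Lib.Linear

variable {G : Type*} [Group G] [Finite G] {D : Set G}
  {F : Type} [Field F] [Fintype F] {hF : Fintype.card F = 2 ^ 2} {d : G}

theorem card_perp_conj (hD : Trans D) (g d : G) :
    Nat.card (perp D (g * d * g⁻¹)) = Nat.card (perp D d) :=
  (Nat.card_congr ((MulAut.conj g).toEquiv.subtypeEquiv fun x => by
    rw [mem_perp_conj hD]
    simp [mul_assoc])).symm

/-- Isotropic vectors whose first two coordinates agree. -/
theorem card_first_eq (hF : Fintype.card F = 2 ^ 2) :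
    Nat.card {v : Fin 6 → F | hB hF 6 v v = 0 ∧ v 0 = v 1} = 544 := by
  have hK := fourField hF
  have hN : N F 2 4 0 = 136 := by
    have h := (N_formula hF 4).1
    norm_num at h
    omega
  have e : Nat.card {v : Fin 6 → F | hB hF 6 v v = 0 ∧ v 0 = v 1} =
      Nat.card (F × {u : Fin 4 → F // ∑ i, u i ^ (2 + 1) = 0}) := by
    have hsum : ∀ v : Fin 6 → F, v 0 = v 1 →
        (hB hF 6 v v = 0 ↔ ∑ i : Fin 4, v i.succ.succ ^ (2 + 1) = 0) := fun v hv => by
      rw [hB_self, Fin.sum_univ_succ, Fin.sum_univ_succ, Fin.succ_zero_eq_one, ← hv]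
      simp only [pow_succ, pow_zero, one_mul, mul_assoc]
      constructor <;> intro h
      · linear_combination h - (v 0 * (v 0 * v 0)) * hK.two
      · linear_combination h + (v 0 * (v 0 * v 0)) * hK.two
    refine Nat.card_congr
      { toFun := fun v => (v.1 0, ⟨fun i => v.1 i.succ.succ, (hsum _ v.2.2).1 v.2.1⟩)
        invFun := fun p => ⟨Fin.cons p.1 (Fin.cons p.1 p.2.1), ?_⟩
        left_inv := fun v => Subtype.ext ?_
        right_inv := fun p => Prod.ext (by simp) (Subtype.ext (funext fun i => by simp)) }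
    · refine ⟨(hsum _ ?_).2 ?_, ?_⟩ <;> simp [p.2.2]
    · funext i
      refine Fin.cases ?_ (fun j => ?_) i
      · simp
      · refine Fin.cases ?_ (fun k => ?_) j
        · simpa using v.2.2
        · simp
  rw [e, Nat.card_prod, Nat.card_eq_fintype_card, hF]
  show 2 ^ 2 * N F 2 4 0 = 544
  omega

namespace Coord

variable (C : Coord D d hF)
include C

/-- A set of neighbours as a set of isotropic vectors. -/
theorem card_points (S : Set G) (hS : S ⊆ perp D d) (W : Set (Fin 6 → F))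
    (hWiff : ∀ v, v ∈ W ↔ v ≠ 0 ∧ hB hF 6 v v = 0 ∧ ∀ s ∈ perp D d, (∃ k : F, C.U.c s = k • v) → s ∈ S) :
    Nat.card S * 3 = Nat.card W := by
  have hFu : Nat.card Fˣ = 3 := by rw [Nat.card_units, Nat.card_eq_fintype_card, hF]; norm_num
  rw [← hFu, ← Nat.card_prod]
  refine Nat.card_eq_of_bijective (fun p => ⟨(p.2 : F) • C.U.c p.1, (hWiff _).2 ⟨smul_ne_zero p.2.ne_zero
    (C.U.ne _ (hS p.1.2)), by simp [LinearMap.map_smulₛₗ, C.U.iso _ (hS p.1.2)], fun s hs ⟨k, hk⟩ => ?_⟩⟩) ⟨?_, ?_⟩
  · rw [← C.U.inj _ (hS p.1.2) s hs (k * p.2) (by rw [hk, smul_smul])]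
    exact p.1.2
  · rintro ⟨s, k⟩ ⟨t, l⟩ h
    have e : (k : F) • C.U.c s = (l : F) • C.U.c t := congrArg Subtype.val h
    have hst : s = t := Subtype.ext (C.U.inj _ (hS s.2) _ (hS t.2) ((l : F)⁻¹ * k) (by
      rw [mul_smul, e, smul_smul, inv_mul_cancel₀ l.ne_zero, one_smul]))
    subst hst
    simp only [Prod.mk.injEq, true_and]
    exact Units.ext (smul_left_injective F (C.U.ne _ (hS s.2)) e)
  · rintro ⟨v, hv⟩
    obtain ⟨h0, hiso, hin⟩ := (hWiff v).1 hv
    obtain ⟨s, hs, k, hk, e⟩ := C.exists_point h0 hiso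
    refine ⟨(⟨s, hin s hs ⟨k, e⟩⟩, (Units.mk0 k hk)⁻¹), Subtype.ext ?_⟩
    show ((Units.mk0 k hk)⁻¹ : Fˣ).val • C.U.c s = v
    rw [e, smul_smul, Units.val_inv_eq_inv_val, Units.val_mk0, inv_mul_cancel₀ hk, one_smul]

/-- A neighbour commutes with 181 neighbours, itself included. -/
theorem card_common_perp {s : G} (hs : s ∈ perp D d) :
    Nat.card {t | t ∈ perp D d ∧ Commute s t} = 181 := by
  have hK := fourField hF
  obtain ⟨s₀, hs₀, k, hk, hc⟩ := C.exists_point (pv_ne_zero (a := (1 : F)) (b := 0) (c := 0) (Or.inl one_ne_zero))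
    (pv_orth hF _ _ _ _ _ _)
  have h0 : Nat.card {t | t ∈ perp D d ∧ Commute s₀ t} = 181 := by
    obtain ⟨W, hW⟩ : ∃ W : Set (Fin 6 → F), W = {v | v ≠ 0 ∧ hB hF 6 v v = 0 ∧ v 0 = v 1} := ⟨_, rfl⟩
    have hWc : Nat.card W + 1 = 544 := by
      rw [← card_first_eq hF, Nat.card_coe_set_eq, Nat.card_coe_set_eq]
      have hins : {v : Fin 6 → F | hB hF 6 v v = 0 ∧ v 0 = v 1} = insert 0 W := by
        ext v
        by_cases hv : v = 0 <;> simp [hW, hv]
      rw [hins, Set.ncard_insert_of_notMem (by simp [hW])]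
    have hfun : ∀ v : Fin 6 → F, hB hF 6 (pv 1 0 0) v = v 0 + v 1 := fun v => by
      simp [hB_apply, Cfsg.hermForm, pv, Fin.sum_univ_six]
    have h := C.card_points {t | t ∈ perp D d ∧ Commute s₀ t} (fun t ht => ht.1) W fun v => by
      rw [hW]
      refine and_congr_right fun hv => and_congr_right fun hiso => ⟨fun h01 t ht ⟨j, hj⟩ => ⟨ht, ?_⟩, fun h => ?_⟩
      · refine (C.U.comm _ hs₀ _ ht).2 ?_
        rw [hc, hj, map_smul, LinearMap.map_smulₛₗ, LinearMap.smul_apply, hfun, h01, ← two_mul, hK.two,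
          zero_mul, smul_zero, smul_zero]
      · obtain ⟨t, ht, j, hj, hct⟩ := C.exists_point hv hiso
        have := (C.U.comm _ hs₀ _ ht).1 (h t ht ⟨j, hct⟩).2
        rw [hc, hct, map_smul, LinearMap.map_smulₛₗ, LinearMap.smul_apply, hfun, smul_eq_mul, smul_eq_mul] at this
        simp only [mul_eq_zero, map_eq_zero, hj, hk, false_or] at this
        linear_combination this - (v 1) * hK.two
    omega
  obtain ⟨g, hg, rfl⟩ := perp_transitive C.fis C.mem hs₀ hs
  rw [← h0]
  refine (Nat.card_congr ((MulAut.conj g).toEquiv.subtypeEquiv fun x => ?_)).symm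
  have hgd : g * d * g⁻¹ = d := by rw [(C.commute_of_mem hg).eq, mul_inv_cancel_right]
  show x ∈ perp D d ∧ Commute s₀ x ↔ g * x * g⁻¹ ∈ perp D d ∧ Commute (g * s₀ * g⁻¹) (g * x * g⁻¹)
  rw [Commute.conj_iff]
  conv_rhs => rw [← hgd, mem_perp_conj C.trans]
  simp [mul_assoc]

/-- A neighbour has 512 neighbours outside the neighbourhood. -/
theorem card_far_perp {s : G} (hs : s ∈ perp D d) :
    Nat.card {x | x ∈ D ∧ ¬ Commute x d ∧ Commute s x} = 512 := by
  have hsd : Nat.card (perp D s) = 693 := by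
    obtain ⟨g, rfl⟩ := C.trans.trans d C.mem s hs.1
    rw [card_perp_conj C.trans, C.card_perp]
  obtain ⟨T, hT⟩ : ∃ T : Set G, T = {t | t ∈ perp D d ∧ Commute s t} := ⟨_, rfl⟩
  have h1 : insert s (perp D s) = insert d (T ∪ {x | x ∈ D ∧ ¬ Commute x d ∧ Commute s x}) := by
    ext x
    simp only [Set.mem_insert_iff, Set.mem_union, hT, mem_perp, Set.mem_setOf_eq]
    constructor
    · intro hx
      have hxD : x ∈ D ∧ Commute s x := by
        rcases hx with rfl | hx
        exacts [⟨hs.1, Commute.refl _⟩, ⟨hx.1, hx.2.2⟩]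
      by_cases hxd : x = d
      · exact Or.inl hxd
      by_cases hc : Commute x d
      exacts [Or.inr (Or.inl ⟨⟨hxD.1, hxd, hc.symm⟩, hxD.2⟩), Or.inr (Or.inr ⟨hxD.1, hc, hxD.2⟩)]
    · intro hx
      by_cases hxs : x = s
      · exact Or.inl hxs
      rcases hx with rfl | hx | hx
      exacts [Or.inr ⟨C.mem, hxs, hs.2.2.symm⟩, Or.inr ⟨hx.1.1, hxs, hx.2⟩, Or.inr ⟨hx.1, hxs, hx.2.2⟩]
  have h2 := congrArg Set.ncard h1
  rw [Set.ncard_insert_of_notMem (fun h => h.2.1 rfl), Set.ncard_insert_of_notMem, Set.ncard_union_eq,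
    ← Nat.card_coe_set_eq, ← Nat.card_coe_set_eq, hsd, ← Nat.card_coe_set_eq, hT, C.card_common_perp hs] at h2
  · omega
  · exact Set.disjoint_left.2 fun x hx hx' => by rw [hT] at hx; exact hx'.2.1 hx.1.2.2.symm
  · rintro (h | h)
    · rw [hT] at h; exact h.1.2.1 rfl
    · exact h.2.1 (Commute.refl d)

/-- A member outside the neighbourhood commutes with at most six points of a plane. -/
theorem plane_six {x : G} (hx : x ∈ D) (hxd : ¬ Commute x d) (P : Set G)
    (hP : ∀ s, s ∈ P ↔ s ∈ perp D d ∧ ∃ a b c, C.U.c s = pv a b c) (hP21 : Nat.card P = 21) :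
    Nat.card {s | s ∈ P ∧ Commute s x} ≤ 6 := by
  classical
  have hD := C.trans
  have hK := fourField hF
  have hS := hB_isSymm hF 6
  have hB' := hB_nondegenerate hF 6
  have h5 : 5 ≤ finrank F (Fin 6 → F) := by rw [finrank_fin_fun]; norm_num
  obtain ⟨T, hT⟩ : ∃ T : Set G, T = {s | s ∈ P ∧ Commute s x} := ⟨_, rfl⟩
  rw [← hT]
  rcases T.eq_empty_or_nonempty with h | ⟨t, ht⟩
  · simp [h]
  have hTP : T ⊆ P := fun s hs => by rw [hT] at hs; exact hs.1
  have hPp : P ⊆ perp D d := fun s hs => ((hP s).1 hs).1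
  have hcomm : ∀ a ∈ P, ∀ b ∈ P, Commute a b := fun a ha b hb => by
    obtain ⟨ha', a1, a2, a3, ea⟩ := (hP a).1 ha
    obtain ⟨hb', b1, b2, b3, eb⟩ := (hP b).1 hb
    exact (C.U.comm a ha' b hb').2 (by rw [ea, eb, pv_orth])
  have htx : Commute t x := by rw [hT] at ht; exact ht.2
  -- the line through `t` and each further point
  have hline : ∀ s : ↥(T \ {t}), ∃ L : Finset G, L.card = 4 ∧
      (∀ q ∈ L, q ∈ P ∧ q ≠ t ∧ ∃ α β : F, β ≠ 0 ∧ C.U.c q = α • C.U.c t + β • C.U.c s.1) ∧
      (∀ r ∈ P, (∃ α β : F, C.U.c r = α • C.U.c t + β • C.U.c s.1) → Commute r x → r = t ∨ r = s.1) := by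
    rintro ⟨s, hs, hst⟩
    simp only [Set.mem_singleton_iff] at hst
    have hsx : Commute s x := by rw [hT] at hs; exact hs.2
    have htp := hPp (hTP ht)
    have hsp := hPp (hTP hs)
    obtain ⟨e, f, g, he, hf, hg, hnd, hc5, hp5, hspan⟩ :=
      C.U.exists_five hK hS hB' h5 htp hsp (Ne.symm hst) (hcomm _ (hTP ht) _ (hTP hs))
    have hin : ∀ q ∈ [t, s, e, f, g], q ∈ perp D d := by simp [htp, hsp, he, hf, hg]
    have hprod : [t, s, e, f, g].prod = d :=
      line_prod hD hK hS hB' h5 C.prim C.cen C.sep C.mem C.U (b := t) (t := [s, e, f, g]) rfl hnd hin hc5 hp5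
    refine ⟨[s, e, f, g].toFinset, List.toFinset_card_of_nodup (List.nodup_cons.1 hnd).2, fun q hq => ?_,
      fun r hr hab hrx => ?_⟩
    · rw [List.mem_toFinset] at hq
      have hqt : q ≠ t := fun h => (List.nodup_cons.1 hnd).1 (h ▸ hq)
      obtain ⟨α, β, hab⟩ : ∃ α β : F, C.U.c q = α • C.U.c t + β • C.U.c s := by
        rcases List.mem_cons.1 hq with rfl | hq'
        · exact ⟨0, 1, by simp⟩
        · exact C.U.five_span hK hS hB' h5 rfl hnd hin hc5 hp5 hq'
      refine ⟨(hP q).2 ⟨hin q (List.mem_cons_of_mem _ hq), ?_⟩, hqt, α, β, fun hb => hqt ?_, hab⟩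
      · obtain ⟨-, a1, a2, a3, ea⟩ := (hP t).1 (hTP ht)
        obtain ⟨-, b1, b2, b3, eb⟩ := (hP s).1 (hTP hs)
        exact ⟨α * a1 + β * b1, α * a2 + β * b2, α * a3 + β * b3, by rw [hab, ea, eb, smul_pv, smul_pv, add_pv]⟩
      · exact (C.U.inj t htp q (hin q (List.mem_cons_of_mem _ hq)) α (by rw [hab, hb, zero_smul, add_zero])).symm
    · have hr5 := hspan r (hPp hr) hab
      obtain ⟨l, hl⟩ : ∃ l, l = [t, s, e, f, g] ++ [d] := ⟨_, rfl⟩
      have hlnd : l.Nodup := by
        rw [hl]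
        exact hnd.append (List.nodup_singleton d) fun q hq hqd =>
          (hin q hq).2.1 (List.mem_singleton.1 hqd)
      have hlD : ∀ q ∈ l, q ∈ D := fun q hq => by
        rw [hl, List.mem_append, List.mem_singleton] at hq
        rcases hq with hq | rfl
        exacts [(hin q hq).1, C.mem]
      have hlc : ∀ q ∈ l, ∀ q' ∈ l, Commute q q' := fun q hq q' hq' => by
        rw [hl, List.mem_append, List.mem_singleton] at hq hq'
        rcases hq with hq | rfl <;> rcases hq' with hq' | rfl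
        exacts [hc5 q hq q' hq', (hin q hq).2.2.symm, (hin q' hq').2.2, Commute.refl _]
      have hlp : Commute l.prod x := by
        rw [hl, List.prod_append, hprod, List.prod_singleton, mul_self hD C.mem]
        exact Commute.one_left x
      have hdl : d ∈ l := by simp [hl]
      rcases pattern hD hx hlnd hlD hlc hlp with h0 | h4
      · rw [List.length_eq_zero_iff, List.filter_eq_nil_iff] at h0
        exact absurd hxd (by simpa using h0 d hdl)
      · by_contra hno
        push Not at hno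
        obtain ⟨S3, hS3⟩ : ∃ S3 : Finset G, S3 = {t, s, r} := ⟨_, rfl⟩
        have hS3c : S3.card = 3 := by
          rw [hS3, Finset.card_insert_of_notMem (by simp [Ne.symm hst, Ne.symm hno.1]),
            Finset.card_pair (Ne.symm hno.2)]
        have hsub : S3 ⊆ (l.filter fun a => !(decide (¬ Commute x a))).toFinset := by
          intro q hq
          rw [hS3] at hq
          simp only [Finset.mem_insert, Finset.mem_singleton] at hq
          rw [List.mem_toFinset, List.mem_filter, hl]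
          rcases hq with rfl | rfl | rfl
          · exact ⟨by simp, by simpa using htx.symm⟩
          · exact ⟨by simp, by simpa using hsx.symm⟩
          · exact ⟨List.mem_append_left _ hr5, by simpa using hrx.symm⟩
        have h3 := (Finset.card_le_card hsub).trans (List.toFinset_card_le _)
        have hlen := (List.filter_append_perm (fun a => decide (¬ Commute x a)) l).length_eq
        rw [List.length_append] at hlen
        have hl6 : l.length = 6 := by simp [hl]
        omega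
  choose L hL4 hLq hLr using hline
  have hdisj : ∀ s s' : ↥(T \ {t}), s ≠ s' → Disjoint (L s) (L s') := by
    intro s s' hne
    rw [Finset.disjoint_left]
    intro q hq hq'
    obtain ⟨-, -, α, β, hβ, e1⟩ := hLq s q hq
    obtain ⟨-, -, α', β', hβ', e2⟩ := hLq s' q hq'
    have h : C.U.c s'.1 = (β'⁻¹ * (α - α')) • C.U.c t + (β'⁻¹ * β) • C.U.c s.1 := by
      rw [mul_smul, mul_smul, ← smul_add, sub_smul, sub_add_eq_add_sub, ← e1, e2, add_sub_cancel_left, smul_smul,
        inv_mul_cancel₀ hβ', one_smul]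
    have hs'2 : (s' : G) ∈ T := s'.2.1
    rcases hLr s s'.1 (hTP hs'2) ⟨_, _, h⟩ ((Set.ext_iff.1 hT _).1 hs'2).2 with h' | h'
    · exact s'.2.2 h'
    · exact hne (Subtype.ext h'.symm)
  haveI : Fintype ↥(T \ {t}) := Fintype.ofFinite _
  have hsub : Finset.univ.biUnion L ⊆ (P \ {t}).toFinite.toFinset := by
    intro q hq
    obtain ⟨s, -, hs⟩ := Finset.mem_biUnion.1 hq
    obtain ⟨h1, h2, -⟩ := hLq s q hs
    simpa using ⟨h1, h2⟩
  have h20 := Finset.card_le_card hsub
  rw [Finset.card_biUnion fun s _ s' _ => hdisj s s', ← Set.ncard_eq_toFinset_card _] at h20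
  simp only [hL4, Finset.sum_const, Finset.card_univ, smul_eq_mul] at h20
  rw [Set.ncard_diff_singleton_of_mem (hTP ht), ← Nat.card_coe_set_eq, hP21] at h20
  rw [← Nat.card_eq_fintype_card, Nat.card_coe_set_eq, Set.ncard_diff_singleton_of_mem ht] at h20
  rw [Nat.card_coe_set_eq]
  omega

/-- Pairwise commuting neighbours number at most 21. -/
theorem commuting_le {E : Set G} (hE : E ⊆ perp D d) (hc : ∀ a ∈ E, ∀ b ∈ E, Commute a b) :
    Nat.card E ≤ 21 := by
  classical
  have hK := fourField hF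
  obtain ⟨W, hW⟩ : ∃ W, W = Submodule.span F (C.U.c '' E) := ⟨_, rfl⟩
  have hmem : ∀ e ∈ E, C.U.c e ∈ W := fun e he => hW ▸ Submodule.subset_span ⟨e, he, rfl⟩
  have horth : ∀ v ∈ W, ∀ w ∈ W, hB hF 6 v w = 0 := by
    intro v hv w hw
    rw [hW] at hv hw
    induction hv using Submodule.span_induction with
    | mem v hv =>
      obtain ⟨a, ha, rfl⟩ := hv
      induction hw using Submodule.span_induction with
      | mem w hw => obtain ⟨b, hb, rfl⟩ := hw; exact (C.U.comm a (hE ha) b (hE hb)).1 (hc a ha b hb)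
      | zero => simp
      | add x y _ _ h1 h2 => rw [map_add, h1, h2, add_zero]
      | smul k x _ h1 => rw [map_smul, h1, smul_zero]
    | zero => simp
    | add x y _ _ h1 h2 => rw [map_add, LinearMap.add_apply, h1, h2, add_zero]
    | smul k x _ h1 => rw [LinearMap.map_smulₛₗ, LinearMap.smul_apply, h1, smul_zero]
  have hdim : finrank F W ≤ 3 := by
    by_contra hlt
    obtain ⟨a, ha, -, b, hb, hab⟩ := exists_iso_pairing hK.ne_id hK.invol (hB_isSymm hF 6)
      (hB_nondegenerate hF 6) W (by rw [finrank_fin_fun]; omega)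
    exact hab (horth a ha b hb)
  have hFu : Nat.card Fˣ = 3 := by rw [Nat.card_units, Nat.card_eq_fintype_card, hF]; norm_num
  obtain ⟨f, hf⟩ : ∃ f : ↥E × Fˣ → ↥W, ∀ p, (f p : Fin 6 → F) = (p.2 : F) • C.U.c p.1 :=
    ⟨fun p => ⟨_, W.smul_mem _ (hmem _ p.1.2)⟩, fun _ => rfl⟩
  have hinj : Function.Injective f := by
    rintro ⟨s, k⟩ ⟨t, l⟩ h
    have e : (k : F) • C.U.c s = (l : F) • C.U.c t := by
      simpa only [hf] using congrArg (fun w : ↥W => (w : Fin 6 → F)) h
    have hst : s = t := Subtype.ext (C.U.inj _ (hE s.2) _ (hE t.2) ((l : F)⁻¹ * k) (by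
      rw [mul_smul, e, smul_smul, inv_mul_cancel₀ l.ne_zero, one_smul]))
    subst hst
    simp only [Prod.mk.injEq, true_and]
    exact Units.ext (smul_left_injective F (C.U.ne _ (hE s.2)) e)
  have hcard : Nat.card (↥E × Fˣ) < Nat.card ↥W := by
    haveI := Fintype.ofFinite (↥E × Fˣ)
    haveI := Fintype.ofFinite ↥W
    rw [Nat.card_eq_fintype_card, Nat.card_eq_fintype_card]
    refine Fintype.card_lt_of_injective_of_notMem f hinj (b := 0) ?_
    rintro ⟨p, hp⟩
    have := congrArg (fun w : ↥W => (w : Fin 6 → F)) hp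
    simp only [hf, ZeroMemClass.coe_zero, smul_eq_zero, Units.ne_zero, false_or] at this
    exact C.U.ne _ (hE p.1.2) this
  have hW64 : Nat.card ↥W ≤ 64 := by
    rw [Module.natCard_eq_pow_finrank (K := F), Nat.card_eq_fintype_card, hF]
    calc (2 ^ 2) ^ finrank F ↥W ≤ (2 ^ 2) ^ 3 := Nat.pow_le_pow_right (by norm_num) hdim
      _ = 64 := by norm_num
  rw [Nat.card_prod, hFu] at hcard
  omega

end Coord

end Cfsg.Lib.Fischer.Relations
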